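import Groth.Prelude.Def_CAlgX
import Mathlib

/-!
# Tails of `H_1`-regular and quasi-regular sequences
-/

set_option autoImplicit false
set_option linter.style.haveILetI false

universe u

open MvPolynomial

namespace Groth.Agent.ConormalFrame

variable {A B : Type u} [CommRing A] [CommRing B]

/-- Invariance of `H_1`-regularity under an invertible change of the sequence. -/
theorem h1_of_mulVec {n : ℕ} {m F : Fin n → A} (hm : CAlgX.IsH1Regular m) (M N : Matrix (Fin n) (Fin n) A)
    (hMN : M * N = 1) (hF : M.mulVec m = F) (hm' : N.mulVec F = m) : CAlgX.IsH1Regular F := by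
  classical
  intro u hu
  have hrel : ∑ i, (Matrix.vecMul u M) i * m i = 0 := by
    calc ∑ i, (Matrix.vecMul u M) i * m i = dotProduct (Matrix.vecMul u M) m := rfl
      _ = dotProduct u F := by rw [← Matrix.dotProduct_mulVec, hF]
      _ = 0 := hu
  have hu' : Matrix.vecMul (Matrix.vecMul u M) N = u := by
    rw [Matrix.vecMul_vecMul, hMN, Matrix.vecMul_one]
  rw [← hu']
  refine Submodule.span_induction (p := fun w _ => Matrix.vecMul w N ∈ _) ?_ ?_ ?_ ?_ (hm _ hrel)
  · rintro _ ⟨i, j, rfl⟩
    have h : Matrix.vecMul (Pi.single i (m j) - Pi.single j (m i)) N =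
        ∑ k, ∑ l, (N i k * N j l) • ((Pi.single k (F l) - Pi.single l (F k)) : Fin n → A) := by
      funext p
      rw [Matrix.sub_vecMul, Pi.sub_apply, Matrix.single_vecMul, Matrix.single_vecMul, ← hm']
      simp only [Pi.smul_apply, Finset.sum_apply, Pi.sub_apply, Pi.single_apply, smul_eq_mul, mul_sub,
        mul_ite, mul_zero, Finset.sum_sub_distrib, Matrix.mulVec, dotProduct, Matrix.row_apply]
      congr 1
      · rw [Finset.sum_comm, Finset.sum_mul]
        refine Finset.sum_congr rfl fun l _ => ?_
        rw [Finset.sum_ite_eq]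
        simp
        ring
      · rw [Finset.sum_mul]
        refine Finset.sum_congr rfl fun k _ => ?_
        rw [Finset.sum_ite_eq]
        simp
        ring
    rw [h]
    exact Submodule.sum_mem _ fun k _ => Submodule.sum_mem _ fun l _ =>
      Submodule.smul_mem _ _ (Submodule.subset_span ⟨k, l, rfl⟩)
  · rw [Matrix.zero_vecMul]
    exact zero_mem _
  · intro w w' _ _ h h'
    rw [Matrix.add_vecMul]
    exact add_mem h h'
  · intro s w _ h
    rw [Matrix.smul_vecMul]
    exact Submodule.smul_mem _ _ h

section tail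

variable {r t : ℕ} (f : Fin r → A) (g : Fin t → A) (π : A →+* B) (hπ : Function.Surjective π)
  (hker : RingHom.ker π = Ideal.span (Set.range f))

include hπ hker

theorem tail_h1 (h : CAlgX.IsH1Regular (Fin.append f g)) : CAlgX.IsH1Regular fun k => π (g k) := by
  classical
  intro c hc
  choose c' hc' using fun k => hπ (c k)
  have hmem : ∑ k, c' k * g k ∈ RingHom.ker π := by
    rw [RingHom.mem_ker, map_sum]
    simpa only [map_mul, hc'] using hc
  rw [hker] at hmem
  obtain ⟨d, hd⟩ := (Submodule.mem_span_range_iff_exists_fun A).1 hmem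
  simp only [smul_eq_mul] at hd
  have h0 : ∑ i, (Fin.append (fun i => -d i) c') i * (Fin.append f g) i = 0 := by
    simp [Fin.sum_univ_add, hd]
  let Φ : (Fin (r + t) → A) →ₛₗ[π] (Fin t → B) :=
    { toFun := fun w k => π (w (Fin.natAdd r k))
      map_add' := fun x y => funext fun k => map_add π _ _
      map_smul' := fun s x => funext fun k => map_mul π _ _ }
  have hΦl : ∀ (i : Fin r) (a : A), Φ (Pi.single (Fin.castAdd t i) a) = 0 := fun i a => funext fun k => by
    have hne : Fin.natAdd r k ≠ Fin.castAdd t i := fun h => by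
      have := congrArg Fin.val h
      simp at this
      omega
    show π (Pi.single (M := fun _ => A) (Fin.castAdd t i) a (Fin.natAdd r k)) = 0
    rw [Pi.single_eq_of_ne hne, map_zero]
  have hΦr : ∀ (i : Fin t) (a : A), Φ (Pi.single (Fin.natAdd r i) a) = Pi.single i (π a) := fun i a =>
    funext fun k => by
      show π (Pi.single (M := fun _ => A) (Fin.natAdd r i) a (Fin.natAdd r k)) = _
      by_cases hk : k = i
      · subst hk
        rw [Pi.single_eq_same, Pi.single_eq_same]
      · rw [Pi.single_eq_of_ne hk, Pi.single_eq_of_ne (fun h => hk (Fin.natAdd_injective _ _ h)), map_zero]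
  have hf : ∀ i, π (f i) = 0 := fun i => by
    rw [← RingHom.mem_ker, hker]
    exact Ideal.subset_span ⟨i, rfl⟩
  have key : Submodule.span A {v : Fin (r + t) → A | ∃ i j : Fin (r + t),
      v = Pi.single i (Fin.append f g j) - Pi.single j (Fin.append f g i)} ≤
      (Submodule.span B {v : Fin t → B | ∃ i j : Fin t,
        v = Pi.single i (π (g j)) - Pi.single j (π (g i))}).comap Φ := by
    refine Submodule.span_le.2 ?_
    rintro _ ⟨i, j, rfl⟩
    rw [SetLike.mem_coe, Submodule.mem_comap, map_sub]
    induction i using Fin.addCases with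
    | left i =>
      induction j using Fin.addCases with
      | left j => simp [hΦl]
      | right j => simp [hΦl, hΦr, hf]
    | right i =>
      induction j using Fin.addCases with
      | left j => simp [hΦl, hΦr, hf]
      | right j =>
        rw [hΦr, hΦr, Fin.append_right, Fin.append_right]
        exact Submodule.subset_span ⟨i, j, rfl⟩
  have h1 := Submodule.mem_comap.1 (key (h _ h0))
  have h2 : Φ (Fin.append (fun i => -d i) c') = c := funext fun k => by
    show π (Fin.append (fun i => -d i) c' (Fin.natAdd r k)) = c k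
    rw [Fin.append_right, hc']
  rwa [h2] at h1

theorem tail_quasi (h : CAlgX.IsQuasiRegular (Fin.append f g)) : CAlgX.IsQuasiRegular fun k => π (g k) := by
  classical
  let G := Fin.append f g
  let J : Ideal A := Ideal.span (Set.range G)
  have hfJ : Ideal.span (Set.range f) ≤ J := Ideal.span_mono (by
    rintro _ ⟨i, rfl⟩
    exact ⟨Fin.castAdd t i, Fin.append_left f g i⟩)
  have hgJ : ∀ k, g k ∈ J := fun k => Ideal.subset_span ⟨Fin.natAdd r k, Fin.append_right f g k⟩
  have hJB : Ideal.span (Set.range fun k => π (g k)) = J.map π := by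
    refine le_antisymm (Ideal.span_le.2 ?_) (Ideal.map_le_iff_le_comap.2 (Ideal.span_le.2 ?_))
    · rintro _ ⟨k, rfl⟩
      exact Ideal.mem_map_of_mem π (hgJ k)
    · rintro _ ⟨i, rfl⟩
      induction i using Fin.addCases with
      | left i =>
        have : π (f i) = 0 := by
          rw [← RingHom.mem_ker, hker]
          exact Ideal.subset_span ⟨i, rfl⟩
        simp [G, this]
      | right k =>
        simp only [SetLike.mem_coe, Ideal.mem_comap, G, Fin.append_right]
        exact Ideal.subset_span ⟨k, rfl⟩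
  -- the equations of the smaller ideal and the powers of `J`
  have hXs : ∀ k : ℕ, ∀ y ∈ Ideal.span (Set.range f) * J ^ k, ∃ R : MvPolynomial (Fin (r + t)) A,
      R.IsHomogeneous (k + 1) ∧ R ∈ Ideal.span (X '' Set.range (Fin.castAdd t)) ∧ eval G R = y := by
    intro k y hy
    refine Submodule.mul_induction_on hy (fun x hx m hm => ?_) fun x y hx hy => ?_
    · obtain ⟨c, hc⟩ := (Submodule.mem_span_range_iff_exists_fun A).1 hx
      obtain ⟨P, hP, rfl⟩ := (Ideal.mem_span_pow_iff_exists_isHomogeneous G m).1 hm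
      refine ⟨(∑ i, C (c i) * X (Fin.castAdd t i)) * P, ?_, ?_, ?_⟩
      · rw [add_comm k 1]
        exact (IsHomogeneous.sum _ _ _ fun i _ => isHomogeneous_C_mul_X _ _).mul hP
      · exact Ideal.mul_mem_right _ _ (Ideal.sum_mem _ fun i _ =>
          Ideal.mul_mem_left _ _ (Ideal.subset_span ⟨_, ⟨i, rfl⟩, rfl⟩))
      · simp [G, ← hc]
    · obtain ⟨R, hR, hRX, rfl⟩ := hx
      obtain ⟨R', hR', hRX', rfl⟩ := hy
      exact ⟨R + R', hR.add hR', add_mem hRX hRX', map_add _ _ _⟩
  have hstep : ∀ k : ℕ, ∀ y ∈ Ideal.span (Set.range f) * J ^ k, y ∈ J ^ (k + 2) →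
      y ∈ Ideal.span (Set.range f) * J ^ (k + 1) := by
    intro k y hy hy2
    obtain ⟨R, hR, hRX, rfl⟩ := hXs k y hy
    have hcoef := h (k + 1) R hR hy2
    rw [eval_eq']
    refine Ideal.sum_mem _ fun d hd => ?_
    obtain ⟨i, ⟨i', rfl⟩, hi⟩ := mem_ideal_span_X_image.1 hRX d hd
    have hdeg : d.degree = k + 1 := by
      rw [Finsupp.degree_eq_weight_one]
      exact hR (mem_support_iff.1 hd)
    have hsplit : d = Finsupp.single (Fin.castAdd t i') 1 + (d - Finsupp.single (Fin.castAdd t i') 1) := by
      ext j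
      by_cases hj : j = Fin.castAdd t i'
      · subst hj; simp; omega
      · simp [Ne.symm hj]
    have hdeg' : (d - Finsupp.single (Fin.castAdd t i') 1).degree = k := by
      have := congrArg Finsupp.degree hsplit
      rw [map_add, Finsupp.degree_single, hdeg] at this
      omega
    let d' : Fin (r + t) →₀ ℕ := d - Finsupp.single (Fin.castAdd t i') 1
    have hprod : (∏ j, G j ^ d j) = f i' * ∏ j, G j ^ d' j := by
      conv_lhs => rw [hsplit]
      simp only [Finsupp.coe_add, Pi.add_apply, pow_add, Finset.prod_mul_distrib]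
      congr 1
      rw [Finset.prod_eq_single (Fin.castAdd t i')] <;> simp +contextual [G]
    rw [hprod, mul_left_comm]
    refine Ideal.mul_mem_mul (Ideal.subset_span ⟨i', rfl⟩) ?_
    rw [add_comm k 1, pow_add, pow_one]
    refine Ideal.mul_mem_mul (hcoef d) ?_
    rw [← hdeg', Finsupp.degree_eq_sum, ← Finset.prod_pow_eq_pow_sum]
    exact Ideal.prod_mem_prod fun j _ => Ideal.pow_mem_pow (show G j ∈ J from Ideal.subset_span ⟨j, rfl⟩) _
  have hint : ∀ N k : ℕ, k ≤ N → ∀ y ∈ Ideal.span (Set.range f), y ∈ J ^ (N + 1) →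
      y ∈ Ideal.span (Set.range f) * J ^ k := by
    intro N k
    induction k with
    | zero => intro _ y hy _; simpa using hy
    | succ k ih =>
      intro hk y hy hyN
      exact hstep k y (ih (by omega) y hy hyN) (Ideal.pow_le_pow_right (by omega) hyN)
  intro N Q hQ hQe d
  rw [hJB] at hQe ⊢
  rw [← Ideal.map_pow, Ideal.mem_map_iff_of_surjective π hπ] at hQe
  obtain ⟨e, he, hee⟩ := hQe
  obtain ⟨P₀, hP₀⟩ := MvPolynomial.map_surjective π hπ Q
  let P : MvPolynomial (Fin t) A := homogeneousComponent N P₀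
  have hPmap : MvPolynomial.map π P = Q := by
    ext d
    simp only [P, coeff_map, coeff_homogeneousComponent, apply_ite π, map_zero]
    rw [← hP₀, coeff_map]
    split_ifs with hd
    · rfl
    · by_contra hne
      refine hd ?_
      rw [Finsupp.degree_eq_weight_one]
      exact hQ (d := d) (by rw [← hP₀, coeff_map]; exact fun hz => hne hz.symm)
  have hP : P.IsHomogeneous N := homogeneousComponent_isHomogeneous _ _
  have hy : eval g P - e ∈ Ideal.span (Set.range f) := by
    rw [← hker, RingHom.mem_ker, map_sub, hee, ← hPmap, eval_map, sub_eq_zero]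
    exact eval₂_comp π g P
  rcases Nat.eq_zero_or_pos N with rfl | hN
  · rw [← hPmap, coeff_map]
    refine Ideal.mem_map_of_mem π ?_
    by_cases hd : d = 0
    · subst hd
      have hc : coeff 0 P = eval g P := by
        conv_rhs => rw [(totalDegree_eq_zero_iff_eq_C.1 (Nat.le_zero.1 hP.totalDegree_le) : P = C (coeff 0 P))]
        rw [eval_C]
      rw [hc, ← sub_add_cancel (eval g P) e]
      exact add_mem (hfJ hy) (by simpa using he)
    · rw [hP.coeff_eq_zero (fun h0 => hd (by simpa [Finsupp.degree_eq_zero_iff] using h0))]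
      exact zero_mem _
  obtain ⟨M, rfl⟩ : ∃ M, N = M + 1 := ⟨N - 1, by omega⟩
  have hPJ : eval g P ∈ J ^ (M + 1) :=
    Ideal.pow_right_mono (Ideal.span_le.2 (by rintro _ ⟨k, rfl⟩; exact hgJ k)) _
      ((Ideal.mem_span_pow_iff_exists_isHomogeneous g _).2 ⟨P, hP, rfl⟩)
  have hyJ : eval g P - e ∈ J ^ (M + 1) := sub_mem hPJ (Ideal.pow_le_pow_right (by omega) he)
  obtain ⟨R, hR, hRX, hRe⟩ := hXs M _ (hint M M le_rfl _ hy hyJ)
  have hkey := h (M + 1) (rename (Fin.natAdd r) P - R) ((hP.rename_isHomogeneous).sub hR) (by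
    rw [map_sub, eval_rename, hRe]
    have : G ∘ Fin.natAdd r = g := funext fun k => Fin.append_right f g k
    rw [this, sub_sub_cancel]
    exact he) (d.mapDomain (Fin.natAdd r))
  rw [← hPmap, coeff_map]
  refine Ideal.mem_map_of_mem π ?_
  rw [coeff_sub, coeff_rename_mapDomain _ (Fin.natAdd_injective _ _)] at hkey
  suffices h0 : coeff (d.mapDomain (Fin.natAdd r)) R = 0 by rwa [h0, sub_zero] at hkey
  by_contra hne
  obtain ⟨i, ⟨i', rfl⟩, hi⟩ := mem_ideal_span_X_image.1 hRX _ (mem_support_iff.2 hne)
  refine hi (Finsupp.mapDomain_of_notMem_range _ _ ?_)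
  rintro ⟨k, hk⟩
  simp [Fin.ext_iff] at hk
  omega

end tail

end Groth.Agent.ConormalFrame
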