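import Groth.Agent.KRegLib.Local
import Groth.Agent.KRegLib.WeakReg
import Groth.Agent.ConormalFrame.Tail
import Mathlib

/-!
# Exchange in sequences whose relations lie in the ideal
-/

set_option autoImplicit false
set_option linter.style.haveILetI false
set_option backward.isDefEq.respectTransparency false
set_option backward.isDefEq.respectTransparency.types false

universe u

namespace Groth.Agent.ConormalFrame

open Groth.Agent.KRegLib
open Groth.Agent.WiebeLib (IsExact)

theorem range_append {α : Type*} {r t : ℕ} (f : Fin r → α) (g : Fin t → α) :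
    Set.range (Fin.append f g) = Set.range f ∪ Set.range g := by
  ext y
  constructor
  · rintro ⟨i, rfl⟩
    induction i using Fin.addCases with
    | left i => exact Or.inl ⟨i, (Fin.append_left f g i).symm⟩
    | right i => exact Or.inr ⟨i, (Fin.append_right f g i).symm⟩
  · rintro (⟨i, rfl⟩ | ⟨i, rfl⟩)
    exacts [⟨_, Fin.append_left f g i⟩, ⟨_, Fin.append_right f g i⟩]

theorem append_comp {α β : Type*} (φ : α → β) {r t : ℕ} (f : Fin r → α) (g : Fin t → α) (i : Fin (r + t)) :
    φ (Fin.append f g i) = Fin.append (φ ∘ f) (φ ∘ g) i := by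
  induction i using Fin.addCases with
  | left i => simp
  | right i => simp

/-- Exchange: members of a Koszul regular sequence may be replaced, near a prime, by elements independent
modulo the prime, completed from any given family of generators. -/
theorem exists_exchange {T : Type u} [CommRing T] (𝔓 : Ideal T) [𝔓.IsPrime] {n : ℕ} (m : Fin n → T)
    (hm : ∀ c : Fin n → T, ∑ i, c i * m i = 0 → ∀ j, c j ∈ Ideal.span (Set.range m)) (hm𝔓 : ∀ i, m i ∈ 𝔓) {r : ℕ} (F : Fin r → T) {ι : Type u} (a : ι → T)
    (hspan : Ideal.span (Set.range F ∪ Set.range a) = Ideal.span (Set.range m))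
    (hind : ∀ c : Fin r → T, ∑ i, c i * F i ∈ 𝔓 * Ideal.span (Set.range m) → ∀ i, c i ∈ 𝔓) :
    ∃ d : T, d ∉ 𝔓 ∧ ∃ (t : ℕ) (e : Fin t → ι), ∀ (T' : Type u) [CommRing T'] [Algebra T T'] [Module.Flat T T'],
      IsUnit (algebraMap T T' d) → ∃ (hn : r + t = n) (M N : Matrix (Fin (r + t)) (Fin (r + t)) T'),
        M * N = 1 ∧
        M.mulVec (fun i => algebraMap T T' (m (Fin.cast hn i))) =
          Fin.append (fun i => algebraMap T T' (F i)) (fun j => algebraMap T T' (a (e j))) ∧
        N.mulVec (Fin.append (fun i => algebraMap T T' (F i)) (fun j => algebraMap T T' (a (e j)))) =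
          (fun i => algebraMap T T' (m (Fin.cast hn i))) := by
  classical
  let K := 𝔓.ResidueField
  let π : (Fin n → T) →ₗ[T] (Fin n → K) := LinearMap.compLeft (Algebra.linearMap T K) (Fin n)
  let φ : (Fin n → T) →ₗ[T] T := Fintype.linearCombination T m
  have hφ : ∀ c, φ c = ∑ i, c i * m i := fun c => by simp [φ, Fintype.linearCombination_apply]
  have hKm : Ideal.span (Set.range m) ≤ 𝔓 := Ideal.span_le.2 fun _ ⟨i, hi⟩ => hi ▸ hm𝔓 i
  have hrel : ∀ c, φ c = 0 → π c = 0 := fun c hc => funext fun j =>
    Ideal.algebraMap_residueField_eq_zero.2 (hKm (hm c (hφ c ▸ hc) j))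
  have hFm : ∀ i, F i ∈ Ideal.span (Set.range m) := fun i => hspan ▸ Ideal.subset_span (Or.inl ⟨i, rfl⟩)
  have ham : ∀ x, a x ∈ Ideal.span (Set.range m) := fun x => hspan ▸ Ideal.subset_span (Or.inr ⟨x, rfl⟩)
  choose cF hcF using fun i => (Ideal.mem_span_range_iff_exists_fun).1 (hFm i)
  choose cA hcA using fun x => (Ideal.mem_span_range_iff_exists_fun).1 (ham x)
  let v : Fin r → (Fin n → K) := fun i => π (cF i)
  let w : ι → (Fin n → K) := fun x => π (cA x)
  -- independence
  have hv : LinearIndependent K v := by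
    rw [Fintype.linearIndependent_iff]
    intro b hb
    obtain ⟨s, hs⟩ := IsLocalization.exist_integer_multiples_of_finite (nonZeroDivisors (T ⧸ 𝔓)) b
    choose b' hb' using hs
    choose c hc using fun i => Ideal.Quotient.mk_surjective (I := 𝔓) (b' i)
    have hcK : ∀ i, algebraMap T K (c i) = algebraMap (T ⧸ 𝔓) K s * b i := fun i => by
      rw [IsScalarTower.algebraMap_apply T (T ⧸ 𝔓) K, Ideal.Quotient.algebraMap_eq, hc, hb', Algebra.smul_def]
    have hz : ∀ j, ∑ i, c i * cF i j ∈ 𝔓 := fun j => by
      rw [← Ideal.algebraMap_residueField_eq_zero, map_sum]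
      have := congrFun hb j
      rw [Finset.sum_apply] at this
      calc ∑ i, algebraMap T K (c i * cF i j) = algebraMap (T ⧸ 𝔓) K s * ∑ i, b i * algebraMap T K (cF i j) := by
            rw [Finset.mul_sum]
            exact Finset.sum_congr rfl fun i _ => by rw [map_mul, hcK, mul_assoc]
        _ = 0 := mul_eq_zero_of_right _ this
    have hc𝔓 : ∀ i, c i ∈ 𝔓 := hind c (by
      have h1 : ∑ i, c i * F i = ∑ j, (∑ i, c i * cF i j) * m j := by
        simp only [← hcF, Finset.mul_sum, Finset.sum_mul, mul_assoc]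
        exact Finset.sum_comm
      rw [h1]
      exact sum_mem fun j _ => Ideal.mul_mem_mul (hz j) (Ideal.subset_span ⟨j, rfl⟩))
    intro i
    have h1 := hcK i
    rw [Ideal.algebraMap_residueField_eq_zero.2 (hc𝔓 i)] at h1
    refine (mul_eq_zero.1 h1.symm).resolve_left ?_
    exact (IsLocalization.map_units K s).ne_zero
  -- spanning
  have hgen : ∀ j, (Pi.single j 1 : Fin n → K) ∈ Submodule.span K (Set.range v ∪ Set.range w) := by
    intro j
    let W := Submodule.span K (Set.range v ∪ Set.range w)
    let S : Submodule T T := ((W.restrictScalars T).comap π).map φ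
    have hS : Ideal.span (Set.range m) ≤ S := by
      rw [← hspan]
      refine Submodule.span_le.2 ?_
      rintro _ (⟨i, rfl⟩ | ⟨x, rfl⟩)
      · exact ⟨cF i, Submodule.subset_span (Or.inl ⟨i, rfl⟩), (hφ _).trans (hcF i)⟩
      · exact ⟨cA x, Submodule.subset_span (Or.inr ⟨x, rfl⟩), (hφ _).trans (hcA x)⟩
    obtain ⟨c, hc, hcm⟩ := hS (Ideal.subset_span ⟨j, rfl⟩ : m j ∈ Ideal.span (Set.range m))
    have h1 : π (c - Pi.single j 1) = 0 := hrel _ (by
      rw [map_sub, hcm, hφ]
      simp [Pi.single_apply])
    rw [map_sub, sub_eq_zero] at h1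
    have h2 : π (Pi.single j 1) = (Pi.single j 1 : Fin n → K) := funext fun i => by
      show algebraMap T K _ = _
      simp [Pi.single_apply, apply_ite (algebraMap T K)]
    rw [← h2, ← h1]
    exact hc
  let W0 := Submodule.span K (Set.range v)
  obtain ⟨κ, e₀, -, he₀, hli⟩ := exists_linearIndependent' K (W0.mkQ ∘ w)
  haveI : Finite κ := hli.finite
  let t := Nat.card κ
  let e : Fin t → ι := e₀ ∘ (Finite.equivFin κ).symm
  have hli' : LinearIndependent K (W0.mkQ ∘ w ∘ e) := hli.comp _ (Finite.equivFin κ).symm.injective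
  have hsp' : Submodule.span K (Set.range (W0.mkQ ∘ w ∘ e)) = ⊤ := by
    rw [show W0.mkQ ∘ w ∘ e = (W0.mkQ ∘ w ∘ e₀) ∘ (Finite.equivFin κ).symm from rfl,
      Set.range_comp (W0.mkQ ∘ w ∘ e₀), (Finite.equivFin κ).symm.surjective.range_eq, Set.image_univ]
    refine he₀.trans (top_le_iff.1 fun y _ => ?_)
    obtain ⟨y, rfl⟩ := W0.mkQ_surjective y
    have hy : y ∈ Submodule.span K (Set.range v ∪ Set.range w) := by
      rw [pi_eq_sum_univ y]
      refine sum_mem fun i _ => Submodule.smul_mem _ _ ?_
      rw [show (fun j => if i = j then (1 : K) else 0) = Pi.single i 1 from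
        funext fun j => by simp [Pi.single_apply, eq_comm]]
      exact hgen i
    refine (show Submodule.span K (Set.range v ∪ Set.range w) ≤
      (Submodule.span K (Set.range (W0.mkQ ∘ w))).comap W0.mkQ from Submodule.span_le.2 ?_) hy
    rintro _ (⟨i, rfl⟩ | ⟨x, rfl⟩)
    · show W0.mkQ (v i) ∈ Submodule.span K (Set.range (W0.mkQ ∘ w))
      rw [show W0.mkQ (v i) = 0 from
        (Submodule.Quotient.mk_eq_zero W0).2 (Submodule.subset_span (Set.mem_range_self i))]
      exact zero_mem _
    · exact Submodule.subset_span ⟨x, rfl⟩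
  have hn : r + t = n := by
    have h1 := W0.finrank_quotient_add_finrank
    rw [finrank_span_eq_card hv, Module.finrank_fintype_fun_eq_card, Fintype.card_fin, Fintype.card_fin,
      show Module.finrank K ((Fin n → K) ⧸ W0) = t by
        rw [← finrank_top, ← hsp', finrank_span_eq_card hli', Fintype.card_fin]] at h1
    omega
  subst hn
  let V : Fin (r + t) → (Fin (r + t) → K) := Fin.append v (w ∘ e)
  have hVsp : ⊤ ≤ Submodule.span K (Set.range V) := by
    intro y _
    rw [range_append, Submodule.span_union]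
    have hy : W0.mkQ y ∈ Submodule.span K (Set.range (W0.mkQ ∘ w ∘ e)) := hsp' ▸ trivial
    rw [Set.range_comp, Submodule.span_image] at hy
    obtain ⟨z, hz, hzy⟩ := hy
    exact Submodule.mem_sup.2 ⟨y - z, (Submodule.Quotient.eq W0).1 hzy.symm, z, hz, sub_add_cancel y z⟩
  let M : Matrix (Fin (r + t)) (Fin (r + t)) T := Matrix.of (Fin.append cF (cA ∘ e))
  have hdet : M.det ∉ 𝔓 := by
    have hVli : LinearIndependent K V :=
      linearIndependent_of_top_le_span_of_card_eq_finrank hVsp (by simp)
    have hMV : M.map (algebraMap T K) = Matrix.of V := by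
      ext i j
      show π (Fin.append cF (cA ∘ e) i) j = V i j
      rw [append_comp (fun c => π c)]
      rfl
    have hu : IsUnit (Matrix.of V).det :=
      (Matrix.isUnit_iff_isUnit_det _).1 (Matrix.linearIndependent_rows_iff_isUnit.1 hVli)
    rw [← hMV, ← RingHom.mapMatrix_apply, ← RingHom.map_det] at hu
    exact fun h => hu.ne_zero (Ideal.algebraMap_residueField_eq_zero.2 h)
  refine ⟨M.det, hdet, t, e, fun T' _ _ _ hu => ?_⟩
  let m' : Fin (r + t) → T' := fun i => algebraMap T T' (m i)
  let F' := Fin.append (fun i => algebraMap T T' (F i)) fun j => algebraMap T T' (a (e j))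
  let M' := M.map (algebraMap T T')
  have hMF : M'.mulVec m' = F' := funext fun i => by
    show ∑ j, algebraMap T T' (Fin.append cF (cA ∘ e) i j) * algebraMap T T' (m j) = _
    simp only [← map_mul, ← map_sum]
    induction i using Fin.addCases with
    | left i => simp [F', hcF]
    | right i => simp [F', hcA]
  have hu' : IsUnit M'.det := by
    rw [show M'.det = algebraMap T T' M.det by rw [RingHom.map_det]; rfl]
    exact hu
  have hmF : M'⁻¹.mulVec F' = m' := by
    rw [← hMF, Matrix.mulVec_mulVec, Matrix.nonsing_inv_mul _ hu', Matrix.one_mulVec]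
  exact ⟨rfl, M', M'⁻¹, Matrix.mul_nonsing_inv _ hu', hMF, hmF⟩

theorem appendSeq_eq {R : Type u} [CommRing R] {r : ℕ} (f : Fin r → R) : ∀ (t : ℕ) (g : Fin t → R)
    (i : Fin (r + t)), appendSeq f t g i = Fin.append f g ((finAddFlip : Fin (t + r) ≃ Fin (r + t)) (Fin.cast (Nat.add_comm r t) i))
  | 0, g, i => by
    have : ((finAddFlip : Fin (0 + r) ≃ Fin (r + 0)) (Fin.cast (Nat.add_comm r 0) i)) = Fin.castAdd 0 i := by
      have hi : Fin.cast (Nat.add_comm r 0) i = Fin.natAdd 0 i := Fin.ext (by simp)
      rw [hi, finAddFlip_apply_natAdd]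
    rw [this, Fin.append_left]
    rfl
  | t + 1, g, i => by
    induction i using Fin.cases with
    | zero =>
      have hi : Fin.cast (Nat.add_comm r (t + 1)) (0 : Fin (r + t + 1)) = Fin.castAdd r (0 : Fin (t + 1)) := Fin.ext (by simp)
      rw [hi, finAddFlip_apply_castAdd, Fin.append_right]
      rfl
    | succ i =>
      show appendSeq f t (fun j => g j.succ) i = _
      rw [appendSeq_eq f t _ i]
      obtain ⟨j, rfl⟩ : ∃ j : Fin (t + r), Fin.cast (Nat.add_comm t r) j = i := ⟨Fin.cast (Nat.add_comm r t) i, Fin.ext rfl⟩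
      induction j using Fin.addCases with
      | left j =>
        have h1 : Fin.cast (Nat.add_comm r t) (Fin.cast (Nat.add_comm t r) (Fin.castAdd r j)) = Fin.castAdd r j := Fin.ext rfl
        have h2 : Fin.cast (Nat.add_comm r (t + 1)) (Fin.cast (Nat.add_comm t r) (Fin.castAdd r j)).succ =
            Fin.castAdd r j.succ := Fin.ext (by simp)
        rw [h1, finAddFlip_apply_castAdd, Fin.append_right]
        exact ((congrArg (fun k => Fin.append f g (finAddFlip k)) h2).trans
          (by rw [finAddFlip_apply_castAdd, Fin.append_right])).symm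
      | right j =>
        have h1 : Fin.cast (Nat.add_comm r t) (Fin.cast (Nat.add_comm t r) (Fin.natAdd t j)) = Fin.natAdd t j := Fin.ext rfl
        have h2 : Fin.cast (Nat.add_comm r (t + 1)) (Fin.cast (Nat.add_comm t r) (Fin.natAdd t j)).succ =
            Fin.natAdd (t + 1) j := Fin.ext (by simp; omega)
        rw [h1, finAddFlip_apply_natAdd, Fin.append_left]
        exact ((congrArg (fun k => Fin.append f g (finAddFlip k)) h2).trans
          (by rw [finAddFlip_apply_natAdd, Fin.append_left])).symm

theorem isExact_appendSeq_iff {R : Type u} [CommRing R] {r t : ℕ} {f : Fin r → R} {g : Fin t → R}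
    (h : IsExact (Fin.append f g)) : IsExact (appendSeq f t g) := by
  have := isExact_comp_equiv h ((finCongr (Nat.add_comm r t)).trans finAddFlip)
  convert this using 1
  exact funext fun i => appendSeq_eq f t g i

end Groth.Agent.ConormalFrame
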