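import Groth.Agent.ExtShX.FundCon
import Groth.Agent.RegNear.Imm
import Groth.Agent.RegImmLib.FlatKinds
import Groth.Agent.GrpdLib.AffLocQuot
import Groth.Agent.Synt29.ConormalSeq
import Groth.Prelude.Def_RegImm
import Mathlib

/-!
# The conormal sheaf of an `H_1`-regular quasi-compact immersion is finite locally free
-/

set_option autoImplicit false
set_option linter.style.haveILetI false
set_option backward.isDefEq.respectTransparency false
set_option backward.isDefEq.respectTransparency.types false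
set_option maxHeartbeats 1000000

universe u

open CategoryTheory CategoryTheory.Limits AlgebraicGeometry TopologicalSpace Opposite
open Groth.Agent.Synt29 Groth.Agent.Synt29.OmegaStalk Groth.Agent.Synt29.ConormalStalk

noncomputable section

namespace Groth.Agent.ConormalFrame

theorem mem_span_of_h1 {R : Type u} [CommRing R] {n : ℕ} {b : Fin n → R} (hb : CAlgX.IsH1Regular b)
    (u : Fin n → R) (hu : ∑ i, u i * b i = 0) (k : Fin n) : u k ∈ Ideal.span (Set.range b) := by
  have hmem := hb u hu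
  refine Submodule.span_induction (p := fun w _ => w k ∈ Ideal.span (Set.range b)) ?_ (zero_mem _) ?_ ?_ hmem
  · rintro _ ⟨i, j, rfl⟩
    simp only [Pi.sub_apply, Pi.single_apply]
    refine sub_mem ?_ ?_ <;> split_ifs <;> first | exact Ideal.subset_span ⟨_, rfl⟩ | exact zero_mem _
  · exact fun w w' _ _ h h' => add_mem h h'
  · exact fun s w _ h => Ideal.mul_mem_left _ s h

section

variable {Z X : Scheme.{u}} (i : Z ⟶ X) (U : X.Opens)

theorem app_surjective_of_restrict (hU : IsAffineOpen U) [IsClosedImmersion (i ∣_ U)] :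
    IsAffineOpen (i ⁻¹ᵁ U) ∧ Function.Surjective (i.app U) := by
  haveI : IsAffine (U : Scheme.{u}) := hU
  haveI : IsAffine ((i ⁻¹ᵁ U : Z.Opens) : Scheme.{u}) := isAffine_of_isAffineHom (i ∣_ U)
  refine ⟨inferInstanceAs (IsAffine _), fun v => ?_⟩
  have h := (i ∣_ U).app_surjective ⊤ (isAffineOpen_top _)
  obtain ⟨w, hw⟩ := h ((i ⁻¹ᵁ U).topIso.inv v)
  refine ⟨U.topIso.hom w, ?_⟩
  have h1 : (i ∣_ U).appTop w = (i ⁻¹ᵁ U).topIso.inv v := hw
  rw [GrpdLib.morphismRestrict_appTop'] at h1
  simp only [CommRingCat.comp_apply] at h1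
  exact (ConcreteCategory.bijective_of_isIso (i ⁻¹ᵁ U).topIso.inv).1 h1

end

variable {Z X : Scheme.{u}} (i : Z ⟶ X) [IsImmersion i] [QuasiCompact i]

theorem germs_bijective {r : ℕ} (U : X.Opens) (f : Fin r → Γ(X, U)) (s : Fin r → Γ(ClSub.idealMod i.ker, U))
    (hs : ∀ j, OmegaSh.idealSect i.ker U (s j) = f j) (a : Z) (ha : i a ∈ U)
    (hker : RingHom.ker (i.stalkMap a).hom =
      Ideal.span (Set.range fun j => X.presheaf.germ U (i a) ha (f j)))
    (hb : CAlgX.IsH1Regular fun j => X.presheaf.germ U (i a) ha (f j)) :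
    Function.Bijective fun b : Fin r → Z.presheaf.stalk a =>
      ∑ j, b j • (Omega.conormal i).presheaf.germ (i ⁻¹ᵁ U) a ha (OmegaSh.conormalSect i U (s j)) := by
  classical
  let g : Fin r → X.presheaf.stalk (i a) := fun j => X.presheaf.germ U (i a) ha (f j)
  let m : Fin r → St (I i) (i a) := fun j => gm (I i) ha (s j)
  have hm : ∀ j, Rep i (i a) (m j) (g j) := fun j => ⟨U, ha, _, rfl, by rw [hs]⟩
  have hsum : ∀ C : Fin r → X.presheaf.stalk (i a), Rep i (i a) (∑ j, C j • m j) (∑ j, C j * g j) := fun C => by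
    refine Finset.induction_on (Finset.univ : Finset (Fin r)) ?_ fun j t hj ih => ?_
    · simpa using rep_zero i (i a)
    · rw [Finset.sum_insert hj, Finset.sum_insert hj]
      exact rep_add i (rep_smul i (hm j) (C j)) ih
  have hval : ∀ C : Fin r → X.presheaf.stalk (i a),
      ((KFlatLib.stalkPullbackIso i a).app (I i)).hom
        (∑ j, i.stalkMap a (C j) • gm (Omega.conormal i) (x := a) ha (OmegaSh.conormalSect i U (s j))) =
      unit1 i a (∑ j, C j • m j) := fun C => by
    rw [map_sum]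
    refine Eq.trans ?_
      (map_sum ((ModuleCat.extendRestrictScalarsAdj (i.stalkMap a).hom).unit.app (St (I i) (i a))).hom _ _).symm
    refine Finset.sum_congr rfl fun j _ => ?_
    refine Eq.trans ?_ (unit1_smul i a (C j) (m j)).symm
    rw [map_smul]
    exact congrArg _ (stalkPullbackIso_gm i (I i) a ha _)
  refine ⟨fun b b' h => ?_, fun z => ?_⟩
  · rw [← sub_eq_zero]
    have h0 : ∑ j, (b - b') j • gm (Omega.conormal i) (x := a) ha (OmegaSh.conormalSect i U (s j)) = 0 := by
      simp only [Pi.sub_apply, sub_smul, Finset.sum_sub_distrib]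
      exact sub_eq_zero.2 h
    generalize b - b' = e at h0 ⊢
    choose C hC using fun j => i.stalkMap_surjective a (e j)
    have hu : unit1 i a (∑ j, C j • m j) = 0 := by
      rw [← hval C]
      simp only [hC]
      rw [h0, map_zero]
    have hsq := ConormalSeq.mem_sq_of_unit1_eq_zero i (i.stalkMap_surjective a) (hsum C) hu
    rw [sq, hker, ← smul_eq_mul] at hsq
    obtain ⟨d, hd, hdsum⟩ : ∃ d : Fin r → X.presheaf.stalk (i a),
        (∀ j, d j ∈ Ideal.span (Set.range g)) ∧ ∑ j, d j * g j = ∑ j, C j * g j := by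
      refine Submodule.smul_induction_on (p := fun y => ∃ d : Fin r → X.presheaf.stalk (i a),
        (∀ j, d j ∈ Ideal.span (Set.range g)) ∧ ∑ j, d j * g j = y) hsq (fun u hu v hv => ?_) ?_
      · obtain ⟨w, hw⟩ := (Submodule.mem_span_range_iff_exists_fun _).1 hv
        refine ⟨fun j => u * w j, fun j => Ideal.mul_mem_right _ _ hu, ?_⟩
        rw [← hw, smul_eq_mul, Finset.mul_sum]
        simp [mul_assoc, g]
      · rintro y y' ⟨d₁, h₁, e₁⟩ ⟨d₂, h₂, e₂⟩
        exact ⟨d₁ + d₂, fun j => add_mem (h₁ j) (h₂ j), by simp [add_mul, Finset.sum_add_distrib, e₁, e₂]⟩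
    funext j
    have hrel := mem_span_of_h1 hb (fun j => C j - d j)
      (by simp only [sub_mul, Finset.sum_sub_distrib]; exact sub_eq_zero.2 hdsum.symm) j
    have hCj : C j ∈ RingHom.ker (i.stalkMap a).hom := by
      rw [hker]
      have := add_mem hrel (hd j)
      rwa [sub_add_cancel] at this
    rw [Pi.zero_apply, ← hC j]
    exact RingHom.mem_ker.1 hCj
  · obtain ⟨U', h', k, rfl⟩ := exists_conormalSect i a z
    have hmem : X.presheaf.germ U' (i a) h' (OmegaSh.idealSect i.ker U' k) ∈ Ideal.span (Set.range g) := by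
      rw [← hker, RingHom.mem_ker]
      exact rep_mem i ⟨U', h', k, rfl, rfl⟩
    obtain ⟨C, hC⟩ := (Submodule.mem_span_range_iff_exists_fun _).1 hmem
    refine ⟨fun j => i.stalkMap a (C j),
      (ConcreteCategory.bijective_of_isIso ((KFlatLib.stalkPullbackIso i a).app (I i)).hom).1 ?_⟩
    refine (hval C).trans (Eq.trans ?_ (stalkPullbackIso_gm i (I i) a h' k).symm)
    show unit1 i a _ = unit1 i a (gm (I i) h' k)
    refine congrArg _ (rep_inj i (hsum C) ⟨U', h', k, rfl, ?_⟩)
    simpa using hC.symm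

theorem exists_frame_of_h1At (z : Z) (h : RegImm.IsRegularImmersionAt RegImm.Kind.h1 i z) :
    ∃ (U : Z.Opens) (n : ℕ) (_ : z ∈ U) (s : Fin n → Γ(Omega.conormal i, U)),
      H23.Frame.IsFrame (Omega.conormal i) s ∧ ∀ w ∈ U, RegImm.IsRegularImmersionAt RegImm.Kind.h1 i w := by
  classical
  obtain ⟨U, hzU, hcl, rs, hrs, hker⟩ := h
  obtain ⟨hV, hsurj⟩ := app_surjective_of_restrict i U.1 U.2
  let f : Fin rs.length → Γ(X, U.1) := fun j => rs.get j
  have happ : ∀ j, i.app U.1 (f j) = 0 := fun j => by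
    have : f j ∈ RingHom.ker (i.app U.1).hom := by
      rw [hker]
      exact Ideal.subset_span (rs.get_mem j)
    exact RingHom.mem_ker.1 this
  choose s hs using fun j => OmegaUniv.exists_idealSect_of_app_eq_zero i U.1 (f j) (happ j)
  have hrange : {y | y ∈ rs} = Set.range f := Set.ext fun y => List.mem_iff_get.trans Iff.rfl
  have hfr : H23.Frame.IsFrame (Omega.conormal i) fun j => OmegaSh.conormalSect i U.1 (s j) := by
    refine ExtShX.Fund.isFrame_of_germs _ fun a ha => ?_
    letI : Algebra Γ(X, U.1) (X.presheaf.stalk (i a)) := X.presheaf.algebra_section_stalk ⟨i a, ha⟩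
    haveI := U.2.isLocalization_stalk ⟨i a, ha⟩
    haveI : Module.Flat Γ(X, U.1) (X.presheaf.stalk (i a)) :=
      IsLocalization.flat _ (U.2.primeIdealOf ⟨i a, ha⟩).asIdeal.primeCompl
    refine germs_bijective i U.1 f s hs a ha ?_ (RegImmLib.isH1Regular_flat_map f hrs)
    rw [RegNear.ker_stalkMap_of_surjective i a U.2 hV hsurj ha, hker]
    refine (Ideal.map_span _ _).trans (congrArg Ideal.span ?_)
    rw [hrange, ← Set.range_comp]
    rfl
  exact ⟨i ⁻¹ᵁ U.1, rs.length, hzU, _, hfr, fun w hw => ⟨U, hw, hcl, rs, hrs, hker⟩⟩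

theorem isFinLocFree_conormal_h1 (hi : RegImm.IsRegularImmersion RegImm.Kind.h1 i) :
    FlatMod.IsFinLocFree (Omega.conormal i) := by
  intro z
  obtain ⟨U, n, hzU, s, hs, -⟩ := exists_frame_of_h1At i z (hi.2 z)
  exact ⟨U, n, hzU, H23.Frame.exists_iso_of_frame _ hs⟩

end Groth.Agent.ConormalFrame
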