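import Groth.Agent.S5974
import Groth.Agent.S8679
import Groth.Agent.ConormalFrame.H1
import Groth.Agent.RegImmLib.FlatKinds
import Mathlib

/-!
# Injectivity of the first conormal map at a point of `H_1`-regularity
-/

set_option autoImplicit false
set_option linter.style.haveILetI false
set_option backward.isDefEq.respectTransparency false
set_option backward.isDefEq.respectTransparency.types false
set_option maxHeartbeats 1000000

universe u

open CategoryTheory CategoryTheory.Limits AlgebraicGeometry TopologicalSpace Opposite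
open Groth.Agent.Synt29 Groth.Agent.Synt29.OmegaStalk Groth.Agent.Synt29.ConormalStalk
open Groth.Agent.S5974 (Cls cls_of_sect cls_exists cls_sect cls_mem cls_exists_of_mem cls_inj cls_zero_mem_sq phi_gen)

namespace Groth.Agent.ConormalFrame

theorem stalk_injective_of_h1At {Z Y X : Scheme.{u}} (i : Z ⟶ Y) (j : Y ⟶ X) [IsImmersion i] [IsImmersion j]
    [QuasiCompact i] [QuasiCompact j]
    (a : (Scheme.Modules.pullback i).obj (Omega.conormal j) ⟶ Omega.conormal (i ≫ j))
    (ha : OmegaSh.IsConormalMap (i ≫ j) j (𝟙 X) i a) (z : Z)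
    (hiz : RegImm.IsRegularImmersionAt RegImm.Kind.h1 i z) :
    Function.Injective ((DerSch.stalkFunctor Z z).map a) := by
  classical
  refine (injective_iff_map_eq_zero _).mpr fun w hw0 => ?_
  obtain ⟨m, hm⟩ := ConormalExact.exists_unit i z (i.stalkMap_surjective z) _ w
  obtain ⟨U, hx, t, rfl⟩ := exists_conormalSect j (i z) m
  have hw' : w = gm _ (show z ∈ i ⁻¹ᵁ (j ⁻¹ᵁ U) from hx)
      (OmegaSh.pullSect i (Omega.conormal j) (j ⁻¹ᵁ U) (OmegaSh.conormalSect j U t)) :=
    (ConcreteCategory.bijective_of_isIso ((KFlatLib.stalkPullbackIso i z).app _).hom).1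
      (hm.trans (stalkPullbackIso_gm i _ z (show z ∈ i ⁻¹ᵁ (j ⁻¹ᵁ U) from hx) _).symm)
  obtain ⟨s, hs, he⟩ := phi_gen j i a ha U t (x := z) hx
  let g : X.presheaf.stalk (j (i z)) := X.presheaf.germ U (j (i z)) hx (OmegaSh.idealSect j.ker U t)
  have hza : Cls j (i z) (gm _ hx (OmegaSh.conormalSect j U t)) g := cls_of_sect j hx t g rfl
  have hsq : g ∈ RingHom.ker ((i ≫ j).stalkMap z).hom ^ 2 := by
    refine cls_zero_mem_sq (i ≫ j) ((i ≫ j).stalkMap_surjective z) ?_
    rw [← hw0, hw', he]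
    exact cls_of_sect (i ≫ j) (show z ∈ (i ≫ j) ⁻¹ᵁ U from hx) s _ (by rw [hs]; rfl)
  -- the equations of `Z` in `Y` near `z`
  obtain ⟨V, hzV, hVcl, rs, hrs, hker⟩ := hiz
  obtain ⟨hVa, hVs⟩ := ConormalFrame.app_surjective_of_restrict i V.1 V.2
  letI : Algebra Γ(Y, V.1) (Y.presheaf.stalk (i z)) := Y.presheaf.algebra_section_stalk ⟨i z, hzV⟩
  haveI := V.2.isLocalization_stalk ⟨i z, hzV⟩
  haveI : Module.Flat Γ(Y, V.1) (Y.presheaf.stalk (i z)) :=
    IsLocalization.flat _ (V.2.primeIdealOf ⟨i z, hzV⟩).asIdeal.primeCompl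
  let e : Fin rs.length → Y.presheaf.stalk (i z) := fun k => algebraMap Γ(Y, V.1) _ (rs.get k)
  have hbe : CAlgX.IsH1Regular e :=
    RegImmLib.isH1Regular_flat_map _ hrs
  have hspan : RingHom.ker (i.stalkMap z).hom = Ideal.span (Set.range e) := by
    rw [RegNear.ker_stalkMap_of_surjective i z V.2 hVa hVs hzV, hker, Ideal.map_ofList]
    refine congrArg Ideal.span (Set.ext fun y => ?_)
    refine List.mem_map.trans ⟨?_, ?_⟩
    · rintro ⟨r, hr, rfl⟩
      obtain ⟨k, rfl⟩ := List.mem_iff_get.1 hr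
      exact ⟨k, rfl⟩
    · rintro ⟨k, rfl⟩
      exact ⟨_, rs.get_mem k, rfl⟩
  have hK : RingHom.ker ((i ≫ j).stalkMap z).hom = (Ideal.span (Set.range e)).comap (j.stalkMap (i z)).hom := by
    rw [← hspan, Scheme.Hom.stalkMap_comp, CommRingCat.hom_comp, ← RingHom.comap_ker]
  have hmul := Groth.Agent.S8679.mem_mul_of_mem_sq (j.stalkMap (i z)).hom (j.stalkMap_surjective (i z)) e hbe _ hK
    (a := g) (RingHom.mem_ker.2 (cls_mem j hza)) hsq
  -- the class of `a` dies after pullback
  let un : St (Omega.conormal j) (i z) →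
      (ModuleCat.extendScalars (i.stalkMap z).hom).obj (St (Omega.conormal j) (i z)) := fun v =>
    ((ModuleCat.extendRestrictScalarsAdj (i.stalkMap z).hom).unit.app (St (Omega.conormal j) (i z))).hom v
  let Kj : Ideal (X.presheaf.stalk (j (i z))) := RingHom.ker ((i ≫ j).stalkMap z).hom
  suffices h : ∀ c ∈ Kj * RingHom.ker (j.stalkMap (i z)).hom,
      ∃ v, Cls j (i z) v c ∧ un v = 0 by
    obtain ⟨v, hv, hv0⟩ := h g hmul
    rw [cls_inj j hza hv] at hm
    exact (ConcreteCategory.bijective_of_isIso ((KFlatLib.stalkPullbackIso i z).app _).hom).1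
      ((hm.trans hv0).trans (map_zero _).symm)
  intro c hc
  refine Submodule.mul_induction_on hc (fun k hk e he' => ?_) fun x y hx hy => ?_
  · obtain ⟨v, m, hm', hv⟩ := cls_exists_of_mem j (i z) (RingHom.mem_ker.1 he')
    refine ⟨j.stalkMap (i z) k • v, ⟨k • m, rep_smul j hm' k, ?_⟩, ?_⟩
    · rw [map_smul, hv, unit1_smul]
    · refine (map_smul ((ModuleCat.extendRestrictScalarsAdj (i.stalkMap z).hom).unit.app
        (St (Omega.conormal j) (i z))).hom (j.stalkMap (i z) k) v).trans ?_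
      have hk0 : i.stalkMap z (j.stalkMap (i z) k) = 0 := by
        have := RingHom.mem_ker.1 hk
        rwa [Scheme.Hom.stalkMap_comp] at this
      show i.stalkMap z (j.stalkMap (i z) k) • un v = 0
      rw [hk0, zero_smul]
  · obtain ⟨v, ⟨m, hm₁, hv⟩, hv0⟩ := hx
    obtain ⟨v', ⟨m', hm₂, hv'⟩, hv0'⟩ := hy
    refine ⟨v + v', ⟨m + m', rep_add j hm₁ hm₂, ?_⟩, ?_⟩
    · rw [map_add, hv, hv']
      exact (map_add _ m m').symm
    · exact (map_add _ v v').trans ((congrArg₂ (· + ·) hv0 hv0').trans (add_zero _))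

end Groth.Agent.ConormalFrame
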