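import Groth.Agent.S0611
import Groth.Agent.RegNear.Cancel
import Groth.Agent.KRegLib.Closed
import Groth.Agent.KRegLib.Kinds
import Mathlib

/-!
# Regular sequences starting with generators of a smaller ideal
-/

set_option autoImplicit false
set_option linter.style.haveILetI false
set_option backward.isDefEq.respectTransparency.types false

universe u

open IsLocalRing RingTheory.Sequence

namespace Groth.Agent.ConormalFrame

variable {A : Type u} [CommRing A]

theorem span_sup_drop {m : ℕ} (L : Ideal A) (a c : Fin (m + 1) → A) (j : Fin (m + 1)) (hj : IsUnit (c j))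
    (hc : ∑ k, c k * a k ∈ L) :
    Ideal.span (Set.range (a ∘ j.succAbove)) ⊔ L = Ideal.span (Set.range a) ⊔ L := by
  refine le_antisymm (sup_le_sup_right (Ideal.span_mono (Set.range_comp_subset_range _ _)) _)
    (sup_le (Ideal.span_le.2 ?_) le_sup_right)
  rintro _ ⟨k, rfl⟩
  rcases Fin.eq_self_or_eq_succAbove j k with rfl | ⟨l, rfl⟩
  · refine (Ideal.unit_mul_mem_iff_mem _ hj).1 ?_
    rw [Fin.sum_univ_succAbove _ k] at hc
    have h1 : c k * a k = (c k * a k + ∑ i, c (k.succAbove i) * a (k.succAbove i)) -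
        ∑ i, c (k.succAbove i) * a (k.succAbove i) := (add_sub_cancel_right _ _).symm
    rw [h1]
    exact sub_mem (Submodule.mem_sup_right hc)
      (Submodule.mem_sup_left (Ideal.sum_mem _ fun i _ => Ideal.mul_mem_left _ _ (Ideal.subset_span ⟨i, rfl⟩)))
  · exact Submodule.mem_sup_left (Ideal.subset_span ⟨l, rfl⟩)

variable [IsLocalRing A] [IsNoetherianRing A]

/-- Minimal generators of `I` modulo `L`. -/
theorem exists_minimal_mod (L I : Ideal A) (hLI : L ≤ I) :
    ∃ (n : ℕ) (a : Fin n → A), Ideal.span (Set.range a) ⊔ L = I ∧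
      ∀ c : Fin n → A, ∑ k, c k * a k ∈ L → ∀ k, c k ∈ maximalIdeal A := by
  classical
  have hex : ∃ n, ∃ a : Fin n → A, Ideal.span (Set.range a) ⊔ L = I := by
    obtain ⟨n, a, ha⟩ := Submodule.fg_iff_exists_fin_generating_family.1 (IsNoetherian.noetherian I)
    exact ⟨n, a, by rw [show Ideal.span (Set.range a) = I from ha, sup_eq_left.2 hLI]⟩
  obtain ⟨a, ha⟩ := Nat.find_spec hex
  refine ⟨_, a, ha, fun c hc k => by_contra fun hk => ?_⟩
  obtain ⟨m, hm⟩ : ∃ m, Nat.find hex = m + 1 := Nat.exists_eq_succ_of_ne_zero (by have := k.2; omega)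
  have key : ∀ (n : ℕ) (a c : Fin n → A) (k : Fin n), n = m + 1 → Ideal.span (Set.range a) ⊔ L = I →
      ∑ l, c l * a l ∈ L → IsUnit (c k) → ∃ a' : Fin m → A, Ideal.span (Set.range a') ⊔ L = I := by
    rintro n a c k rfl ha hc hk
    exact ⟨_, (span_sup_drop L a c k hk hc).trans ha⟩
  exact Nat.find_min hex (show m < Nat.find hex by omega) (key _ a c k hm ha hc (notMem_maximalIdeal.1 hk))

omit [IsLocalRing A] [IsNoetherianRing A] in
theorem rel_mem_of_h1 {n : ℕ} {b : Fin n → A} (hb : CAlgX.IsH1Regular b) (u : Fin n → A)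
    (hu : ∑ i, u i * b i = 0) (k : Fin n) : u k ∈ Ideal.span (Set.range b) := by
  refine Submodule.span_induction (p := fun w _ => w k ∈ Ideal.span (Set.range b)) ?_ (zero_mem _) ?_ ?_ (hb u hu)
  · rintro _ ⟨i, j, rfl⟩
    simp only [Pi.sub_apply, Pi.single_apply]
    refine sub_mem ?_ ?_ <;> split_ifs <;> first | exact Ideal.subset_span ⟨_, rfl⟩ | exact zero_mem _
  · exact fun w w' _ _ h h' => add_mem h h'
  · exact fun s w _ h => Ideal.mul_mem_left _ s h

/-- If `K` is generated by a regular sequence and `I ≤ K` injects modulo the maximal ideal, then generators of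
`I` start a regular sequence generating `K`. -/
theorem exists_regular_prefix (I K : Ideal A) (hIK : I ≤ K) (hK : K ≤ maximalIdeal A) (rs : List A)
    (hrs : IsWeaklyRegular A rs) (hrsK : Ideal.ofList rs = K)
    (hind : ∀ x ∈ I, x ∈ maximalIdeal A * K → x ∈ maximalIdeal A * I) :
    ∃ fs gs : List A, IsWeaklyRegular A (fs ++ gs) ∧ Ideal.ofList fs = I ∧ Ideal.ofList (fs ++ gs) = K := by
  classical
  obtain ⟨n, F, hF, hFmin⟩ := exists_minimal_mod ⊥ I bot_le
  rw [sup_bot_eq] at hF
  obtain ⟨s, g, hg, hgmin⟩ := exists_minimal_mod I K hIK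
  have hFI : ∀ i, F i ∈ I := fun i => hF ▸ Ideal.subset_span ⟨i, rfl⟩
  have hgK : ∀ i, g i ∈ K := fun i => hg ▸ Submodule.mem_sup_left (Ideal.subset_span ⟨i, rfl⟩)
  let G : Fin (n + s) → A := Fin.append F g
  have hG : Ideal.span (Set.range G) = K := by
    rw [← hg, ← hF, ← Ideal.span_union, Set.union_comm]
    refine congrArg Ideal.span (Set.ext fun x => ⟨?_, ?_⟩)
    · rintro ⟨i, rfl⟩
      induction i using Fin.addCases with
      | left i => exact Or.inl ⟨i, (Fin.append_left F g i).symm⟩
      | right i => exact Or.inr ⟨i, (Fin.append_right F g i).symm⟩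
    · rintro (⟨i, rfl⟩ | ⟨i, rfl⟩)
      exacts [⟨_, Fin.append_left F g i⟩, ⟨_, Fin.append_right F g i⟩]
  have hrel : ∀ c : Fin (n + s) → A, ∑ i, c i * G i = 0 → ∀ i, c i ∈ maximalIdeal A := by
    intro c hc
    rw [Fin.sum_univ_add] at hc
    simp only [G, Fin.append_left, Fin.append_right] at hc
    have hsF : ∑ i, c (Fin.castAdd s i) * F i ∈ I := Ideal.sum_mem _ fun i _ => Ideal.mul_mem_left _ _ (hFI i)
    have hd : ∀ i, c (Fin.natAdd n i) ∈ maximalIdeal A := hgmin _ (by
      rw [eq_neg_of_add_eq_zero_right hc]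
      exact neg_mem hsF)
    have hmK : ∑ i, c (Fin.castAdd s i) * F i ∈ maximalIdeal A * K := by
      rw [eq_neg_of_add_eq_zero_left hc]
      exact neg_mem (Ideal.sum_mem _ fun i _ => Ideal.mul_mem_mul (hd i) (hgK i))
    have hmI := hind _ hsF hmK
    rw [← smul_eq_mul, ← hF] at hmI
    obtain ⟨e, he, hee⟩ := (Submodule.mem_ideal_smul_span_iff_exists_sum _ _ _).1 hmI
    rw [Finsupp.sum_fintype _ _ (fun k => by exact zero_smul _ _)] at hee
    have h0 := hFmin (fun i => c (Fin.castAdd s i) - e i) (by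
      simp only [sub_mul, Finset.sum_sub_distrib, Ideal.mem_bot, sub_eq_zero]
      exact hee.symm)
    intro i
    induction i using Fin.addCases with
    | left i => simpa using add_mem (h0 i) (he i)
    | right i => exact hd i
  have hKne : K ≠ ⊤ := fun h => (maximalIdeal.isMaximal A).ne_top (top_le_iff.1 (h ▸ hK))
  have hrsreg : IsRegular A rs := ⟨hrs, fun h => hKne (by
    rw [smul_eq_mul, Ideal.mul_top, hrsK] at h
    exact h.symm)⟩
  have hrK : Ideal.span (Set.range rs.get) = K := by rw [← RegNear.ofList_eq_span_get, hrsK]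
  have hlen1 := RegNear.card_le_of_relations G rs.get (hG.trans hrK.symm) hrel
  have hlen2 := RegNear.card_le_of_relations rs.get G (hrK.trans hG.symm) (fun c hc i => hK (hrK ▸
    rel_mem_of_h1 (KRegLib.seq_of_isRegular .h1 rs hrsreg) c hc i))
  rw [Fintype.card_fin] at hlen1 hlen2
  have hlen : n + s = rs.length := le_antisymm hlen1 hlen2
  have hreg := S0611.result (fun i => rs.get (Fin.cast hlen i)) G
    (by
      have h1 : List.ofFn (fun i => rs.get (Fin.cast hlen i)) = rs := by
        rw [← List.ofFn_congr hlen.symm rs.get, List.ofFn_get]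
      rw [h1]
      exact hrsreg)
    (by
      refine Eq.trans ?_ hG.symm
      rw [← hrK]
      exact congrArg Ideal.span ((finCongr hlen).surjective.range_comp rs.get))
  refine ⟨List.ofFn F, List.ofFn g, ?_, (RegNear.ofList_ofFn F).trans hF, ?_⟩
  · rw [← List.ofFn_fin_append]
    exact hreg.toIsWeaklyRegular
  · rw [← List.ofFn_fin_append]
    exact (RegNear.ofList_ofFn G).trans hG

end Groth.Agent.ConormalFrame
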