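import Groth.Agent.H1CNSplit.Stalk
import Groth.Agent.ConormalFrame.Ring
import Groth.Agent.RegImmLib.TwoThree
import Groth.Agent.RegImmLib.RegComp
import Groth.Agent.RegNear.Imm
import Mathlib

/-!
# Regular immersions and split conormal sequences, stalk by stalk
-/

set_option backward.isDefEq.respectTransparency false
set_option backward.isDefEq.respectTransparency.types false
set_option linter.style.haveILetI false
set_option maxHeartbeats 1000000
set_option autoImplicit false

universe u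

open CategoryTheory CategoryTheory.Limits AlgebraicGeometry TopologicalSpace Opposite IsLocalRing RingTheory.Sequence

namespace Groth.Agent.ConormalFrame

open Groth.Agent Groth.Agent.Synt29.ConormalStalk Groth.Agent.Synt29 OmegaStalk
open Groth.Agent.S5974 (Cls cls_of_sect cls_exists cls_sect cls_mem cls_exists_of_mem cls_inj cls_zero_mem_sq cls_sub_zero phi_gen)
open Groth.Agent.H1CNSplit (cls_smul cls_add cls_sub)

/-- If the conormal sequence is split at a point, then an equation of `Y` lying in the maximal ideal times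
the equations of `Z` lies in the maximal ideal times the equations of `Y`. -/
theorem mem_mul_of_split {X Y Z : Scheme.{u}} (i : Y ⟶ X) [IsImmersion i] [QuasiCompact i] (j : Z ⟶ Y) [IsImmersion j] [QuasiCompact j]
    (φ₁ : (Scheme.Modules.pullback j).obj (Omega.conormal i) ⟶ Omega.conormal (j ≫ i))
    (hφ₁ : OmegaSh.IsConormalMap (j ≫ i) i (𝟙 X) j φ₁) (z : Z)
    (R : St (Omega.conormal (j ≫ i)) z →ₗ[Z.presheaf.stalk z]
      St ((Scheme.Modules.pullback j).obj (Omega.conormal i)) z)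
    (hR : ∀ w, R ((DerSch.stalkFunctor Z z).map φ₁ w) = w)
    (e : X.presheaf.stalk (i (j z))) (he : e ∈ RingHom.ker (i.stalkMap (j z)).hom)
    (he' : e ∈ IsLocalRing.maximalIdeal (X.presheaf.stalk (i (j z))) *
      (RingHom.ker ((j ≫ i).stalkMap z).hom : Ideal (X.presheaf.stalk (i (j z))))) :
    e ∈ IsLocalRing.maximalIdeal (X.presheaf.stalk (i (j z))) * RingHom.ker (i.stalkMap (j z)).hom := by
  classical
  let M := IsLocalRing.maximalIdeal (X.presheaf.stalk (i (j z)))
  let I := RingHom.ker (i.stalkMap (j z)).hom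
  let J : Ideal (X.presheaf.stalk (i (j z))) := RingHom.ker ((j ≫ i).stalkMap z).hom
  let P := (Scheme.Modules.pullback j).obj (Omega.conormal i)
  let un : St (Omega.conormal i) (j z) →
      (ModuleCat.extendScalars (j.stalkMap z).hom).obj (St (Omega.conormal i) (j z)) := fun v =>
    ((ModuleCat.extendRestrictScalarsAdj (j.stalkMap z).hom).unit.app (St (Omega.conormal i) (j z))).hom v
  let eP := ((KFlatLib.stalkPullbackIso j z).app (Omega.conormal i)).hom
  have hσ : ∀ a : X.presheaf.stalk (i (j z)), (j ≫ i).stalkMap z a = j.stalkMap z (i.stalkMap (j z) a) :=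
    fun a => by rw [Scheme.Hom.stalkMap_comp]; rfl
  -- every element of the stalk of the pullback is the image of a class
  have hex : ∀ w : St P z, ∃ g c, Cls i (j z) c g ∧ eP w = un c := fun w => by
    obtain ⟨c, hc⟩ := ConormalExact.exists_unit j z (j.stalkMap_surjective z) _ w
    obtain ⟨g, hg⟩ := cls_exists i (j z) c
    exact ⟨g, c, hg, hc⟩
  -- the value of `φ₁` on the class of an equation of `Y`
  obtain ⟨O, hx, t, ht⟩ : ∃ (O : X.Opens) (hx : i (j z) ∈ O) (t : Γ(ClSub.idealMod i.ker, O)),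
      X.presheaf.germ O (i (j z)) hx (OmegaSh.idealSect i.ker O t) = e := by
    obtain ⟨c, hc⟩ := cls_exists_of_mem i (j z) (RingHom.mem_ker.1 he)
    obtain ⟨O, hx, t, -, ht⟩ := cls_sect i hc
    exact ⟨O, hx, t, ht⟩
  obtain ⟨s, hs, hval⟩ := phi_gen i j φ₁ hφ₁ O t (x := z) hx
  let w : St P z := gm _ (show z ∈ j ⁻¹ᵁ (i ⁻¹ᵁ O) from hx)
    (OmegaSh.pullSect j (Omega.conormal i) (i ⁻¹ᵁ O) (OmegaSh.conormalSect i O t))
  have hwe : ∃ c, Cls i (j z) c e ∧ eP w = un c :=
    ⟨_, cls_of_sect i hx t e ht, stalkPullbackIso_gm j _ z (show z ∈ j ⁻¹ᵁ (i ⁻¹ᵁ O) from hx) _⟩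
  have hwc : Cls (j ≫ i) z ((DerSch.stalkFunctor Z z).map φ₁ w) e := by
    rw [hval]
    exact cls_of_sect (j ≫ i) (show z ∈ (j ≫ i) ⁻¹ᵁ O from hx) s e (by rw [hs]; exact ht)
  -- `φ₁ w` lies in `𝔪 • N_{Z/X}`
  let Q : Ideal (Z.presheaf.stalk z) := M.map ((j ≫ i).stalkMap z).hom
  have hmemN : ∀ b ∈ M * J, ∃ v, Cls (j ≫ i) z v b ∧ v ∈ Q • (⊤ : Submodule (Z.presheaf.stalk z) (St (Omega.conormal (j ≫ i)) z)) := by
    intro b hb
    refine Submodule.mul_induction_on hb (fun r hr g hg => ?_) fun b b' hb hb' => ?_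
    · obtain ⟨v, hv⟩ := cls_exists_of_mem (j ≫ i) z (a := g) (RingHom.mem_ker.1 hg)
      exact ⟨_, cls_smul (j ≫ i) hv r, Submodule.smul_mem_smul (Ideal.mem_map_of_mem _ hr) trivial⟩
    · obtain ⟨v, hv, hvQ⟩ := hb
      obtain ⟨v', hv', hvQ'⟩ := hb'
      exact ⟨_, cls_add (j ≫ i) hv hv', add_mem hvQ hvQ'⟩
  obtain ⟨v, hv, hvQ⟩ := hmemN e he'
  rw [cls_inj (j ≫ i) hv hwc] at hvQ
  have hwQ : w ∈ Q • (⊤ : Submodule (Z.presheaf.stalk z) (St P z)) := by
    have h1 : R ((DerSch.stalkFunctor Z z).map φ₁ w) ∈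
        (Q • (⊤ : Submodule (Z.presheaf.stalk z) (St (Omega.conormal (j ≫ i)) z))).map R := ⟨_, hvQ, rfl⟩
    rw [Submodule.map_smul'', hR] at h1
    exact Submodule.smul_mono le_rfl le_top h1
  -- so `w` is the image of a class of an element of `𝔪 I`
  have hQex : ∀ p ∈ Q • (⊤ : Submodule (Z.presheaf.stalk z) (St P z)), ∃ b ∈ M * I, ∃ c, Cls i (j z) c b ∧ eP p = un c := by
    intro p hp
    refine Submodule.smul_induction_on hp (fun r hr q _ => ?_) fun p p' hp hp' => ?_
    · obtain ⟨a, ha, rfl⟩ : ∃ a : X.presheaf.stalk (i (j z)), a ∈ M ∧ (j ≫ i).stalkMap z a = r :=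
        (Ideal.mem_map_iff_of_surjective _ ((j ≫ i).stalkMap_surjective z)).1 hr
      obtain ⟨g, c, hg, hc⟩ := hex q
      refine ⟨a * g, Ideal.mul_mem_mul ha (RingHom.mem_ker.2 (cls_mem i hg)), _, cls_smul i hg a, ?_⟩
      refine (map_smul eP.hom _ q).trans ?_
      rw [hσ]
      refine (congrArg (j.stalkMap z (i.stalkMap (j z) a) • ·) hc).trans ?_
      exact (map_smul ((ModuleCat.extendRestrictScalarsAdj (j.stalkMap z).hom).unit.app
        (St (Omega.conormal i) (j z))).hom (i.stalkMap (j z) a) c).symm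
    · obtain ⟨b, hb, c, hc, he₁⟩ := hp
      obtain ⟨b', hb', c', hc', he₂⟩ := hp'
      exact ⟨b + b', add_mem hb hb', c + c', cls_add i hc hc',
        (map_add eP.hom p p').trans ((congrArg₂ (· + ·) he₁ he₂).trans (map_add _ c c').symm)⟩
  obtain ⟨b, hb, c', hc', hwb⟩ := hQex w hwQ
  obtain ⟨c, hc, hwc'⟩ := hwe
  have h0 : un (c - c') = 0 := by
    refine (map_sub _ c c').trans (sub_eq_zero.2 ?_)
    exact hwc'.symm.trans hwb
  letI : Algebra (Y.presheaf.stalk (j z)) (Z.presheaf.stalk z) := (j.stalkMap z).hom.toAlgebra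
  have hker : c - c' ∈ RingHom.ker (j.stalkMap z).hom • (⊤ : Submodule (Y.presheaf.stalk (j z)) (St (Omega.conormal i) (j z))) :=
    (EtMil7.one_tmul_eq_zero_iff (S := Y.presheaf.stalk (j z)) (T := Z.presheaf.stalk z)
      (j.stalkMap_surjective z)).1 h0
  obtain ⟨g, hg, hgc⟩ : ∃ g ∈ J * I, Cls i (j z) (c - c') g := by
    refine Submodule.smul_induction_on hker (fun r hr q _ => ?_) fun p p' hp hp' => ?_
    · obtain ⟨a, rfl⟩ := i.stalkMap_surjective (j z) r
      obtain ⟨g, hg⟩ := cls_exists i (j z) q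
      exact ⟨a * g, Ideal.mul_mem_mul (RingHom.mem_ker.2 ((hσ a).trans (RingHom.mem_ker.1 hr)))
        (RingHom.mem_ker.2 (cls_mem i hg)), cls_smul i hg a⟩
    · obtain ⟨g, hg, h1⟩ := hp
      obtain ⟨g', hg', h2⟩ := hp'
      exact ⟨_, add_mem hg hg', cls_add i h1 h2⟩
  have h00 := cls_sub i (cls_sub i hc hc') hgc
  rw [sub_self] at h00
  have hsq : e - b - g ∈ I ^ 2 := cls_zero_mem_sq i (i.stalkMap_surjective (j z)) h00
  have hIM : I ≤ M := IsLocalRing.le_maximalIdeal (RingHom.ker_ne_top _)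
  have hJM : J ≤ M := IsLocalRing.le_maximalIdeal (RingHom.ker_ne_top _)
  have h1 : e - b - g ∈ M * I := (sq I ▸ Ideal.mul_mono_left hIM) hsq
  have h2 := add_mem (add_mem h1 (Ideal.mul_mono_left hJM hg)) hb
  rwa [sub_add_cancel, sub_add_cancel] at h2

/-- Regular composite and split conormal sequence give two regular immersions. -/
theorem regularAt_of_split {Z Y X : Scheme.{u}} [IsLocallyNoetherian X] (i : Z ⟶ Y) (j : Y ⟶ X)
    [IsImmersion i] [IsImmersion j] [QuasiCompact i] [QuasiCompact j]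
    (a : (Scheme.Modules.pullback i).obj (Omega.conormal j) ⟶ Omega.conormal (i ≫ j))
    (ha : OmegaSh.IsConormalMap (i ≫ j) j (𝟙 X) i a) (z : Z)
    (R : St (Omega.conormal (i ≫ j)) z →ₗ[Z.presheaf.stalk z]
      St ((Scheme.Modules.pullback i).obj (Omega.conormal j)) z)
    (hR : ∀ w, R ((DerSch.stalkFunctor Z z).map a w) = w)
    (hc : RegImm.IsRegularImmersionAt .regular (i ≫ j) z) :
    RegImm.IsRegularImmersionAt .regular i z ∧ RegImm.IsRegularImmersionAt .regular j (i z) := by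
  haveI : IsLocallyNoetherian Y := LocallyOfFiniteType.isLocallyNoetherian j
  let A := X.presheaf.stalk (j (i z))
  let B := Y.presheaf.stalk (i z)
  let σ : A →+* B := (j.stalkMap (i z)).hom
  let τ : B →+* Z.presheaf.stalk z := (i.stalkMap z).hom
  have hσ : Function.Surjective σ := j.stalkMap_surjective (i z)
  obtain ⟨rs, hrs, hrker⟩ := RegImmLib.exists_stalk_of_regularImmersionAt (i ≫ j) z hc
  let K : Ideal A := RingHom.ker ((i ≫ j).stalkMap z).hom
  have hKτ : K = (RingHom.ker τ).comap σ := by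
    rw [RingHom.comap_ker]
    exact congrArg (fun h => RingHom.ker h.hom) (Scheme.Hom.stalkMap_comp i j z)
  have hIK : RingHom.ker σ ≤ K := hKτ ▸ Ideal.comap_mono bot_le
  obtain ⟨fs, gs, hreg, hfs, hfg⟩ := exists_regular_prefix (RingHom.ker σ) K hIK
    (le_maximalIdeal (RingHom.ker_ne_top _)) rs hrs.toIsWeaklyRegular hrker.symm
    (fun e he he' => mem_mul_of_split j i a ha z R hR e he he')
  obtain ⟨hf, hg⟩ := (isWeaklyRegular_append_iff A fs gs).1 hreg
  refine ⟨?_, RegNear.regularImmersionAt_of_stalk j (i z) fs hf hfs.symm⟩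
  letI : Algebra A B := σ.toAlgebra
  have he : (Ideal.ofList fs • ⊤ : Submodule A A) = LinearMap.ker (Algebra.linearMap A B) := by
    ext x
    rw [smul_eq_mul, Ideal.mul_top, hfs]
    rfl
  have h1 : IsWeaklyRegular B gs :=
    (((Submodule.quotEquivOfEq _ _ he).trans
      (LinearMap.quotKerEquivOfSurjective (Algebra.linearMap A B) hσ)).isWeaklyRegular_congr gs).1 hg
  refine RegNear.regularImmersionAt_of_stalk i z (gs.map σ) ((isWeaklyRegular_map_algebraMap_iff B B gs).2 h1) ?_
  have h2 : RingHom.ker τ = K.map σ := by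
    rw [hKτ, Ideal.map_comap_of_surjective σ hσ]
  refine h2.trans ?_
  rw [← hfg, Ideal.ofList_append, Ideal.map_sup, hfs, (Ideal.map_eq_bot_iff_le_ker σ).2 le_rfl, bot_sup_eq,
    Ideal.map_ofList]

/-- Cancellation of regular immersions. -/
theorem regularAt_cancel {Z Y X : Scheme.{u}} [IsLocallyNoetherian X] (i : Z ⟶ Y) (j : Y ⟶ X)
    [IsImmersion i] [IsImmersion j] (z : Z) (hi : RegImm.IsRegularImmersionAt .regular i z)
    (hc : RegImm.IsRegularImmersionAt .regular (i ≫ j) z) : RegImm.IsRegularImmersionAt .regular j (i z) := by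
  obtain ⟨gs, hgs, hgker⟩ := RegImmLib.exists_stalk_of_regularImmersionAt i z hi
  obtain ⟨rs, hrs, hrker⟩ := RegImmLib.exists_stalk_of_regularImmersionAt (i ≫ j) z hc
  let σ : X.presheaf.stalk (j (i z)) →+* Y.presheaf.stalk (i z) := (j.stalkMap (i z)).hom
  let τ : Y.presheaf.stalk (i z) →+* Z.presheaf.stalk z := (i.stalkMap z).hom
  have hσ : Function.Surjective σ := j.stalkMap_surjective (i z)
  have hcomp : RingHom.ker ((i ≫ j).stalkMap z).hom = (RingHom.ker τ).comap σ := by
    rw [RingHom.comap_ker]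
    exact congrArg (fun h => RingHom.ker h.hom) (Scheme.Hom.stalkMap_comp i j z)
  rw [hrker] at hcomp
  change Ideal.ofList (show List (X.presheaf.stalk (j (i z))) from rs) = _ at hcomp
  haveI : IsNoetherianRing (X.presheaf.stalk (j (i z))) := inferInstance
  obtain ⟨hs, hhs, hker⟩ := RegImmLib.exists_regular_ker σ hσ (show List (X.presheaf.stalk (j (i z))) from rs)
    hrs.toIsWeaklyRegular (fun x hx => le_maximalIdeal (RingHom.ker_ne_top _) (hrker.ge (Ideal.subset_span hx)))
    (hcomp ▸ Ideal.comap_mono bot_le) gs hgs.toIsWeaklyRegular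
    (fun x hx => le_maximalIdeal (RingHom.ker_ne_top _) (hgker.ge (Ideal.subset_span hx)))
    (by rw [hcomp, Ideal.map_comap_of_surjective σ hσ]; exact hgker.symm)
  exact RegNear.regularImmersionAt_of_stalk j (i z) hs hhs hker


end Groth.Agent.ConormalFrame
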