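import Groth.Agent.ConormalFrame.Exchange
import Groth.Agent.ConormalFrame.Ring
import Groth.Agent.RegImmLib.EtDescent
import Groth.Agent.LinType.QReg
import Groth.Agent.Triage.SliceFlat
import Mathlib

/-!
# Kinds of regularity descend along standard smooth maps
-/

set_option backward.isDefEq.respectTransparency false
set_option backward.isDefEq.respectTransparency.types false
set_option linter.style.haveILetI false
set_option maxHeartbeats 1000000
set_option autoImplicit false

universe u

namespace Groth.Agent.ConormalFrame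

open Groth.Agent.RegImmLib MvPolynomial

theorem seq_rel {A : Type u} [CommRing A] {k : RegImm.Kind} (hk : k = .h1 ∨ k = .quasi) (rs : List A)
    (h : k.Seq A rs) (u : Fin rs.length → A) (hu : ∑ i, u i * rs.get i = 0) (p : Fin rs.length) :
    u p ∈ Ideal.span (Set.range rs.get) := by
  classical
  rcases hk with rfl | rfl
  · exact rel_mem_of_h1 h u hu p
  · have h' := h 1 (∑ i, C (u i) * X i)
      (IsHomogeneous.sum _ _ _ fun i _ => isHomogeneous_C_mul_X _ _) (by
        rw [map_sum]
        simp only [eval_mul, eval_C, eval_X, hu]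
        exact zero_mem _) (Finsupp.single p 1)
    simpa [coeff_sum, coeff_C_mul, coeff_X', Finsupp.single_left_inj] using h'

/-- The coordinates are independent modulo the square. -/
theorem coord_indep {P A T : Type u} [CommRing P] [CommRing A] [CommRing T] {n : ℕ}
    [Algebra (MvPolynomial (Fin n) P) A] [Algebra.FormallyEtale (MvPolynomial (Fin n) P) A]
    [Algebra A T] (g0 : A) [IsLocalization.Away g0 T] (𝔓 : Ideal T) [𝔓.IsPrime] (ρ : Fin n → P)
    (KT : Ideal T) (hKT : KT ≤ 𝔓)
    (ht : ∀ k, algebraMap A T (algebraMap (MvPolynomial (Fin n) P) A (X k - C (ρ k))) ∈ KT)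
    (c : Fin n → T)
    (hc : ∑ k, c k * algebraMap A T (algebraMap (MvPolynomial (Fin n) P) A (X k - C (ρ k))) ∈ 𝔓 * KT) :
    ∀ k, c k ∈ 𝔓 := by
  classical
  intro l
  let L := 𝔓.ResidueField
  let e : A →+* L := (algebraMap T L).comp (algebraMap A T)
  let θ : MvPolynomial (Fin n) P →+* TrivSqZeroExt L L :=
    eval₂Hom ((TrivSqZeroExt.inlHom L L).comp (e.comp ((algebraMap (MvPolynomial (Fin n) P) A).comp C)))
      fun k => TrivSqZeroExt.inl (e (algebraMap (MvPolynomial (Fin n) P) A (X k))) +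
        TrivSqZeroExt.inr (if k = l then 1 else 0)
  letI : Algebra (MvPolynomial (Fin n) P) L := (e.comp (algebraMap (MvPolynomial (Fin n) P) A)).toAlgebra
  letI : Algebra (MvPolynomial (Fin n) P) (TrivSqZeroExt L L) := θ.toAlgebra
  have hθ : ∀ p, (θ p).fst = e (algebraMap (MvPolynomial (Fin n) P) A p) := fun p => by
    have h : (TrivSqZeroExt.fstHom L L L).toRingHom.comp θ = e.comp (algebraMap (MvPolynomial (Fin n) P) A) := by
      refine MvPolynomial.ringHom_ext (fun r => ?_) fun k => ?_
      · simp [θ]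
      · simp [θ]
    exact RingHom.congr_fun h p
  let eA : A →ₐ[MvPolynomial (Fin n) P] L := ⟨e, fun p => rfl⟩
  let fs : TrivSqZeroExt L L →ₐ[MvPolynomial (Fin n) P] L :=
    ⟨(TrivSqZeroExt.fstHom L L L).toRingHom, fun p => hθ p⟩
  have hfs : Function.Surjective fs := fun v => ⟨TrivSqZeroExt.inl v, rfl⟩
  have hnil : IsNilpotent (RingHom.ker (fs : TrivSqZeroExt L L →+* L)) := by
    refine ⟨2, ?_⟩
    refine (pow_two (RingHom.ker (fs : TrivSqZeroExt L L →+* L))).trans ?_
    rw [Ideal.zero_eq_bot, eq_bot_iff, Ideal.mul_le]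
    intro x hx y hy
    have hx' : x.fst = 0 := RingHom.mem_ker.1 hx
    have hy' : y.fst = 0 := RingHom.mem_ker.1 hy
    rw [Ideal.mem_bot]
    ext <;> simp [hx', hy']
  let hA := Algebra.FormallySmooth.liftOfSurjective eA fs hfs hnil
  have hhA : ∀ x, (hA x).fst = e x := fun x =>
    Algebra.FormallySmooth.liftOfSurjective_apply eA fs hfs hnil x
  have hu : IsUnit (hA.toRingHom g0) := by
    rw [TrivSqZeroExt.isUnit_iff_isUnit_fst]
    show IsUnit (hA g0).fst
    rw [hhA]
    exact (IsLocalization.Away.algebraMap_isUnit (S := T) g0).map (algebraMap T L)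
  let hT : T →+* TrivSqZeroExt L L := IsLocalization.Away.lift g0 hu
  have hTA : ∀ x, hT (algebraMap A T x) = hA x := fun x => IsLocalization.Away.lift_eq g0 hu x
  have hfst : ∀ x, (hT x).fst = algebraMap T L x := by
    have h : (TrivSqZeroExt.fstHom L L L).toRingHom.comp hT = algebraMap T L := by
      refine IsLocalization.ringHom_ext (Submonoid.powers g0) (RingHom.ext fun x => ?_)
      show (hT (algebraMap A T x)).fst = _
      rw [hTA, hhA]
    exact RingHom.congr_fun h
  have hz : ∀ x ∈ 𝔓, (hT x).fst = 0 := fun x hx => by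
    rw [hfst]
    exact Ideal.algebraMap_residueField_eq_zero.2 hx
  have h0 : ∀ y ∈ 𝔓 * KT, hT y = 0 := fun y hy => by
    refine Submodule.mul_induction_on hy (fun a ha b hb => ?_) fun a b ha hb => ?_
    · rw [map_mul]
      ext <;> simp [hz a ha, hz b (hKT hb)]
    · rw [map_add, ha, hb, add_zero]
  have hτ : ∀ k, hT (algebraMap A T (algebraMap (MvPolynomial (Fin n) P) A (X k - C (ρ k)))) =
      TrivSqZeroExt.inr (if k = l then 1 else 0) := fun k => by
    have h1 : hA (algebraMap (MvPolynomial (Fin n) P) A (X k - C (ρ k))) = θ (X k - C (ρ k)) := hA.commutes _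
    rw [hTA, h1]
    have h2 : e (algebraMap (MvPolynomial (Fin n) P) A (X k)) =
        e (algebraMap (MvPolynomial (Fin n) P) A (C (ρ k))) := by
      rw [← sub_eq_zero, ← map_sub, ← map_sub]
      exact Ideal.algebraMap_residueField_eq_zero.2 (hKT (ht k))
    rw [map_sub]
    simp only [θ, eval₂Hom_X', eval₂Hom_C, RingHom.comp_apply, TrivSqZeroExt.inlHom_apply, h2]
    exact add_sub_cancel_left _ _
  have h1 := h0 _ hc
  rw [map_sum] at h1
  simp only [map_mul, hτ] at h1
  have h2 := congrArg TrivSqZeroExt.snd h1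
  rw [TrivSqZeroExt.snd_sum] at h2
  simp [hfst] at h2
  exact Ideal.algebraMap_residueField_eq_zero.1 h2

/-- The ideal upstairs is generated by the coordinates and the ideal downstairs, up to its square. -/
theorem ker_le_sup {P A B : Type u} [CommRing P] [CommRing A] [CommRing B] {n : ℕ}
    [Algebra (MvPolynomial (Fin n) P) A] [Algebra.FormallyUnramified (MvPolynomial (Fin n) P) A]
    (ψ : A →+* B) (hχ : Function.Surjective (ψ.comp ((algebraMap (MvPolynomial (Fin n) P) A).comp C)))
    (ρ : Fin n → P) (ht : ∀ k, ψ (algebraMap (MvPolynomial (Fin n) P) A (X k - C (ρ k))) = 0) :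
    RingHom.ker ψ ≤ Ideal.span (Set.range fun k => algebraMap (MvPolynomial (Fin n) P) A (X k - C (ρ k))) ⊔
      (RingHom.ker (ψ.comp ((algebraMap (MvPolynomial (Fin n) P) A).comp C))).map
        ((algebraMap (MvPolynomial (Fin n) P) A).comp C) ⊔ RingHom.ker ψ ^ 2 := by
  classical
  let φ : P →+* A := (algebraMap (MvPolynomial (Fin n) P) A).comp C
  let I : Ideal A := Ideal.span (Set.range fun k => algebraMap (MvPolynomial (Fin n) P) A (X k - C (ρ k))) ⊔
      (RingHom.ker (ψ.comp φ)).map φ ⊔ RingHom.ker ψ ^ 2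
  let mk := Ideal.Quotient.mk I
  have hJ : ∀ r ∈ RingHom.ker (ψ.comp φ), mk (φ r) = 0 := fun r hr => Ideal.Quotient.eq_zero_iff_mem.2
    (Submodule.mem_sup_left (Submodule.mem_sup_right (Ideal.mem_map_of_mem φ hr)))
  let σ : B →+* A ⧸ I := RingHom.liftOfSurjective (ψ.comp φ) hχ
    ⟨mk.comp φ, fun r hr => RingHom.mem_ker.2 (hJ r hr)⟩
  have hσ : ∀ r, σ (ψ (φ r)) = mk (φ r) := fun r => RingHom.liftOfRightInverse_comp_apply _ _ _ _ r
  let q₁ : A →ₐ[MvPolynomial (Fin n) P] A ⧸ I := Ideal.Quotient.mkₐ _ I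
  have hq₂ : ∀ p, σ (ψ (algebraMap (MvPolynomial (Fin n) P) A p)) = mk (algebraMap (MvPolynomial (Fin n) P) A p) := by
    intro p
    have h : σ.comp (ψ.comp (algebraMap (MvPolynomial (Fin n) P) A)) =
        mk.comp (algebraMap (MvPolynomial (Fin n) P) A) := by
      refine MvPolynomial.ringHom_ext (fun r => hσ r) fun k => ?_
      have h1 : mk (algebraMap (MvPolynomial (Fin n) P) A (X k)) = mk (φ (ρ k)) := by
        rw [← sub_eq_zero, ← map_sub]
        show mk (_ - algebraMap (MvPolynomial (Fin n) P) A (C (ρ k))) = 0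
        rw [← map_sub]
        exact Ideal.Quotient.eq_zero_iff_mem.2
          (Submodule.mem_sup_left (Submodule.mem_sup_left (Ideal.subset_span ⟨k, rfl⟩)))
      have h2 : ψ (algebraMap (MvPolynomial (Fin n) P) A (X k)) = ψ (φ (ρ k)) := by
        have := ht k
        rwa [map_sub, map_sub, sub_eq_zero] at this
      show σ (ψ _) = mk _
      rw [h1, h2, hσ]
    exact RingHom.congr_fun h p
  let q₂ : A →ₐ[MvPolynomial (Fin n) P] A ⧸ I := ⟨σ.comp ψ, fun p => hq₂ p⟩
  have hsq : IsNilpotent ((RingHom.ker ψ).map mk) := by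
    refine ⟨2, ?_⟩
    rw [← Ideal.map_pow, Ideal.zero_eq_bot, Ideal.map_eq_bot_iff_le_ker, Ideal.mk_ker]
    exact le_sup_right
  have heq : q₁ = q₂ := Algebra.FormallyUnramified.ext _ hsq fun a => by
    obtain ⟨r, hr⟩ := hχ (ψ a)
    rw [Ideal.Quotient.mk_eq_mk_iff_sub_mem]
    show mk a - σ (ψ a) ∈ _
    rw [← hr]
    show mk a - σ (ψ (φ r)) ∈ _
    rw [hσ, ← map_sub]
    refine Ideal.mem_map_of_mem _ (RingHom.mem_ker.2 ?_)
    rw [map_sub, sub_eq_zero]
    exact hr.symm
  intro a ha
  rw [← Ideal.Quotient.eq_zero_iff_mem]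
  show q₁ a = 0
  rw [heq]
  show σ (ψ a) = 0
  rw [RingHom.mem_ker.1 ha, map_zero]

/-- The step from the exchanged sequence to the quotient. -/
theorem seq_exchange_tail {S B : Type u} [CommRing S] [CommRing B] {k : RegImm.Kind} (hk : k = .h1 ∨ k = .quasi)
    {l n t : ℕ} (m : Fin l → S) (hm1 : k = .h1 → CAlgX.IsH1Regular m) (hm2 : k = .quasi → CAlgX.IsQuasiRegular m)
    (f : Fin n → S) (g : Fin t → S) (hn : n + t = l) (M N : Matrix (Fin (n + t)) (Fin (n + t)) S) (hMN : M * N = 1)
    (hM : M.mulVec (fun q => m (Fin.cast hn q)) = Fin.append f g)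
    (hN : N.mulVec (Fin.append f g) = fun q => m (Fin.cast hn q))
    (π : S →+* B) (hπ : Function.Surjective π) (hker : RingHom.ker π = Ideal.span (Set.range f)) :
    k.Seq B (List.ofFn fun p => π (g p)) ∧ Ideal.span (Set.range (Fin.append f g)) = Ideal.span (Set.range m) := by
  subst hn
  have hsp : Ideal.span (Set.range (Fin.append f g)) = Ideal.span (Set.range m) := by
    refine le_antisymm (Ideal.span_le.2 ?_) (Ideal.span_le.2 ?_)
    · rintro _ ⟨p, rfl⟩
      rw [← congrFun hM p]
      simp only [SetLike.mem_coe, Matrix.mulVec, dotProduct]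
      exact Ideal.sum_mem _ fun q _ => Ideal.mul_mem_left _ _ (Ideal.subset_span ⟨q, rfl⟩)
    · rintro _ ⟨p, rfl⟩
      rw [show m p = _ from (congrFun hN p).symm]
      simp only [SetLike.mem_coe, Matrix.mulVec, dotProduct]
      exact Ideal.sum_mem _ fun q _ => Ideal.mul_mem_left _ _ (Ideal.subset_span ⟨q, rfl⟩)
  refine ⟨?_, hsp⟩
  rcases hk with rfl | rfl
  · exact get_ofFn_pred (P := fun {c} g => CAlgX.IsH1Regular g) _
      (tail_h1 f g π hπ hker (h1_of_mulVec (hm1 rfl) M N hMN hM hN))
  · exact get_ofFn_pred (P := fun {c} g => CAlgX.IsQuasiRegular g) _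
      (tail_quasi f g π hπ hker (LinType.isQuasiRegular_of_span_eq m _ (hm2 rfl) hsp))

/-- Flatness of the locus cut out by the coordinates. -/
theorem flat_quot_coords {P T' : Type u} [CommRing P] [CommRing T'] {n : ℕ} [Algebra P T']
    [Algebra (MvPolynomial (Fin n) P) T'] [IsScalarTower P (MvPolynomial (Fin n) P) T']
    [Module.Flat (MvPolynomial (Fin n) P) T'] (ρ : Fin n → P) (t' : Fin n → T')
    (ht' : ∀ p, algebraMap (MvPolynomial (Fin n) P) T' (X p - C (ρ p)) = t' p) :
    Module.Flat P (T' ⧸ Ideal.span (Set.range t')) := by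
  let a : Ideal (MvPolynomial (Fin n) P) := Ideal.span (Set.range fun p => X p - C (ρ p))
  have hat : a.map (algebraMap (MvPolynomial (Fin n) P) T') = Ideal.span (Set.range t') := by
    rw [Ideal.map_span, ← Set.range_comp]
    exact congrArg (fun f => Ideal.span (Set.range f)) (funext ht')
  haveI hq := Triage.SliceFlat.flat_quotient_map (A := MvPolynomial (Fin n) P) (T := T') a
  have hb : Function.Bijective (algebraMap P (MvPolynomial (Fin n) P ⧸ a)) := by
    let ev : MvPolynomial (Fin n) P ⧸ a →+* P := Ideal.Quotient.lift a (eval ρ) (fun x hx => by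
      refine (Ideal.span_le (I := RingHom.ker (eval ρ))).2 ?_ hx
      rintro _ ⟨p, rfl⟩
      simp)
    refine ⟨fun x y hxy => ?_, fun y => ?_⟩
    · have := congrArg ev hxy
      simpa [ev, IsScalarTower.algebraMap_apply P (MvPolynomial (Fin n) P) (MvPolynomial (Fin n) P ⧸ a)] using this
    · obtain ⟨p, rfl⟩ := Ideal.Quotient.mk_surjective y
      have h1 : Ideal.Quotient.mk a = (algebraMap P (MvPolynomial (Fin n) P ⧸ a)).comp (eval ρ) := by
        refine MvPolynomial.ringHom_ext (fun r => ?_) fun p => ?_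
        · simp [IsScalarTower.algebraMap_apply P (MvPolynomial (Fin n) P) (MvPolynomial (Fin n) P ⧸ a)]
        · simp only [RingHom.comp_apply, eval_X]
          rw [IsScalarTower.algebraMap_apply P (MvPolynomial (Fin n) P) (MvPolynomial (Fin n) P ⧸ a),
            Ideal.Quotient.algebraMap_eq, Ideal.Quotient.eq]
          exact Ideal.subset_span ⟨p, rfl⟩
      exact ⟨eval ρ p, (RingHom.congr_fun h1 p).symm⟩
  let f1 := algebraMap P (MvPolynomial (Fin n) P ⧸ a)
  let f2 := algebraMap (MvPolynomial (Fin n) P ⧸ a) (T' ⧸ a.map (algebraMap (MvPolynomial (Fin n) P) T'))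
  have hf : (f2.comp f1).Flat := RingHom.Flat.comp (RingHom.Flat.of_bijective hb) (RingHom.flat_algebraMap_iff.2 hq)
  let e2 := Ideal.quotEquivOfEq hat
  have hf' := RingHom.Flat.comp hf (RingHom.Flat.of_bijective (f := e2.toRingHom) e2.bijective)
  refine RingHom.flat_algebraMap_iff.1 ?_
  convert hf' using 1
  refine RingHom.ext fun r => ?_
  show _ = e2 (f2 (f1 r))
  simp only [f1, f2, e2]
  rw [IsScalarTower.algebraMap_apply P (MvPolynomial (Fin n) P) (MvPolynomial (Fin n) P ⧸ a)]
  show _ = Ideal.Quotient.mk _ (algebraMap (MvPolynomial (Fin n) P) T' (algebraMap P _ r))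
  rw [← IsScalarTower.algebraMap_apply]
  rfl

/-- The Nakayama step. -/
theorem exists_notMem_mul_le {A : Type u} [CommRing A] (K J : Ideal A) (hK : K.FG) (hJK : J ≤ K)
    (hK2 : K ≤ J ⊔ K * K) (p : Ideal A) [p.IsPrime] (hKp : K ≤ p) :
    ∃ e0 ∉ p, ∀ x ∈ K, e0 * x ∈ J := by
  let qC := Ideal.Quotient.mk J
  obtain ⟨r', hr', hr0⟩ := Submodule.exists_sub_one_mem_and_smul_eq_zero_of_fg_of_le_smul (K.map qC) (K.map qC)
    (Ideal.FG.map hK qC) (by
      rw [smul_eq_mul, ← Ideal.map_mul]
      refine (Ideal.map_mono hK2).trans ?_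
      rw [Ideal.map_sup, Ideal.map_quotient_self, bot_sup_eq])
  obtain ⟨e0, rfl⟩ := Ideal.Quotient.mk_surjective r'
  have he1 : e0 - 1 ∈ K := by
    have : qC (e0 - 1) ∈ K.map qC := by rw [map_sub, map_one]; exact hr'
    rwa [← Ideal.mem_comap, Ideal.comap_map_of_surjective _ Ideal.Quotient.mk_surjective,
      ← RingHom.ker_eq_comap_bot, Ideal.mk_ker, sup_eq_left.2 hJK] at this
  refine ⟨e0, fun hmem => ?_, fun x hx => ?_⟩
  · exact (Ideal.ne_top_iff_one _).1 (Ideal.IsPrime.ne_top (I := p) inferInstance)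
      (by simpa using sub_mem hmem (hKp he1))
  · rw [← Ideal.Quotient.eq_zero_iff_mem, map_mul]
    exact hr0 _ (Ideal.mem_map_of_mem _ hx)

/-- Descent from a flat chart of finite presentation through a prime. -/
theorem descend_of_chart {P U : Type u} [CommRing P] [CommRing U] [Algebra P U] [Module.Flat P U]
    [Algebra.FinitePresentation P U] (k : RegImm.Kind) (hk' : k ≠ .regular) (J : Ideal P) (Q : Ideal P)
    (hQ : Q.IsPrime) (hJQ : J ≤ Q) (PU : PrimeSpectrum U) (hPU : PU.asIdeal.comap (algebraMap P U) = Q)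
    (us : List U) (hus : k.Seq U us) (hJU : Ideal.ofList us = J.map (algebraMap P U)) :
    ∃ g : P, g ∉ Q ∧ ∃ rs : List (Localization.Away g),
      k.Seq (Localization.Away g) rs ∧ Ideal.ofList rs = J.map (algebraMap P (Localization.Away g)) := by
  obtain ⟨_, ⟨r, rfl⟩, hQr, hrim⟩ := PrimeSpectrum.isTopologicalBasis_basic_opens.exists_subset_of_mem_open
    (show (⟨Q, hQ⟩ : PrimeSpectrum P) ∈ Set.range (PrimeSpectrum.comap (algebraMap P U)) from
      ⟨PU, PrimeSpectrum.ext hPU⟩)
    (PrimeSpectrum.isOpenMap_comap_of_hasGoingDown_of_finitePresentation (R := P) (S := U)).isOpen_range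
  let Rr := Localization.Away r
  let Ur := Localization.Away (algebraMap P U r)
  letI : Algebra Rr Ur := (IsLocalization.Away.map Rr Ur (algebraMap P U) r).toAlgebra
  haveI : IsScalarTower P Rr Ur := IsScalarTower.of_algebraMap_eq fun x => by
    rw [RingHom.algebraMap_toAlgebra, IsScalarTower.algebraMap_apply P U Ur]
    exact (IsLocalization.map_eq _ x).symm
  haveI : Module.Flat U Ur := IsLocalization.flat Ur (Submonoid.powers (algebraMap P U r))
  haveI : Module.Flat P Ur := Module.Flat.trans P U Ur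
  haveI : Module.Flat Rr Ur := (Module.flat_iff_of_isLocalization (R := P) Rr (Submonoid.powers r) Ur).2 inferInstance
  haveI : Module.FaithfullyFlat Rr Ur := by
    refine Module.FaithfullyFlat.of_comap_surjective fun q => ?_
    have hq : q.comap (algebraMap P Rr) ∈ PrimeSpectrum.basicOpen r := fun hmem =>
      q.2.ne_top (Ideal.eq_top_of_isUnit_mem _ hmem (IsLocalization.Away.algebraMap_isUnit r))
    obtain ⟨p, hp⟩ := hrim hq
    have hpd : Disjoint (Submonoid.powers (algebraMap P U r) : Set U) p.asIdeal := by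
      rw [Set.disjoint_left]
      rintro _ ⟨m, rfl⟩ hm
      refine hq ?_
      have h1 := Ideal.IsPrime.mem_of_pow_mem p.2 m hm
      rw [← Ideal.mem_comap] at h1
      exact (congrArg PrimeSpectrum.asIdeal hp) ▸ h1
    obtain ⟨p', hp'⟩ : ∃ p' : PrimeSpectrum Ur, p'.comap (algebraMap U Ur) = p :=
      ⟨⟨p.asIdeal.map (algebraMap U Ur), IsLocalization.isPrime_of_isPrime_disjoint _ Ur _ p.2 hpd⟩,
        PrimeSpectrum.ext (IsLocalization.comap_map_of_isPrime_disjoint _ Ur p.2 hpd)⟩
    refine ⟨p', PrimeSpectrum.localization_comap_injective Rr (Submonoid.powers r) ?_⟩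
    rw [← PrimeSpectrum.comap_comp_apply, ← IsScalarTower.algebraMap_eq, IsScalarTower.algebraMap_eq P U Ur,
      PrimeSpectrum.comap_comp_apply, hp', hp]
  have hUr : LocSeq k ((J.map (algebraMap P Rr)).map (algebraMap Rr Ur)) := by
    have e1 : (J.map (algebraMap P Rr)).map (algebraMap Rr Ur) = Ideal.ofList (us.map (algebraMap U Ur)) := by
      rw [← Ideal.map_ofList, hJU, Ideal.map_map, Ideal.map_map, ← IsScalarTower.algebraMap_eq,
        ← IsScalarTower.algebraMap_eq]
    intro p hp hle
    refine ⟨1, (Ideal.ne_top_iff_one p).1 hp.ne_top, ?_⟩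
    haveI : Module.Flat Ur (Localization.Away (1 : Ur)) :=
      IsLocalization.flat _ (Submonoid.powers (1 : Ur))
    refine ⟨_, seq_map k hk' _ (seq_map k hk' _ hus : k.Seq Ur (us.map (algebraMap U Ur))), ?_⟩
    rw [e1, Ideal.map_ofList]
  have hRr : LocSeq k (J.map (algebraMap P Rr)) := locSeq_of_faithfullyFlat k hk' _ hUr
  have hQd : Disjoint (Submonoid.powers r : Set P) Q := by
    rw [Set.disjoint_left]
    rintro _ ⟨m, rfl⟩ hm
    exact hQr (Ideal.IsPrime.mem_of_pow_mem hQ m hm)
  haveI : (Q.map (algebraMap P Rr)).IsPrime := IsLocalization.isPrime_of_isPrime_disjoint _ Rr Q hQ hQd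
  obtain ⟨g1, hg1, rs1, hrs1, hI1⟩ := hRr _ (Ideal.map_mono hJQ)
  obtain ⟨⟨b, s⟩, hbs⟩ := IsLocalization.surj (Submonoid.powers r) g1
  have hb : b ∉ Q := fun hbQ => by
    refine hg1 ?_
    have h1 := Ideal.mem_map_of_mem (algebraMap P Rr) hbQ
    rw [← hbs] at h1
    exact (Ideal.mul_unit_mem_iff_mem _ (IsLocalization.map_units Rr s)).1 h1
  refine ⟨b * r, fun hm => (hQ.mem_or_mem hm).elim hb hQr, ?_⟩
  haveI : IsLocalization.Away (algebraMap P Rr b) (Localization.Away g1) := by
    refine IsLocalization.Away.of_associated (r := g1) ?_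
    exact ⟨(IsLocalization.map_units Rr s).unit, hbs⟩
  haveI : IsLocalization.Away (b * r) (Localization.Away g1) :=
    mul_comm r b ▸ IsLocalization.Away.mul' Rr (Localization.Away g1) r b
  exact RegImmLib.exists_seq_away k hk' J (b * r) (Localization.Away g1) _ rs1 hrs1
    (by rw [hI1, Ideal.map_map, ← IsScalarTower.algebraMap_eq])

/-- The exchange step over a localisation. -/
theorem descend_step {P A B T T' : Type u} [CommRing P] [CommRing A] [CommRing B] [CommRing T] [CommRing T']
    {n : ℕ} [Algebra P A] [Algebra (MvPolynomial (Fin n) P) A] [IsScalarTower P (MvPolynomial (Fin n) P) A]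
    [Algebra.Etale (MvPolynomial (Fin n) P) A] [Algebra A T] [Algebra T T'] [Algebra A T'] [Algebra P T']
    [Algebra (MvPolynomial (Fin n) P) T'] [IsScalarTower A T T'] [IsScalarTower (MvPolynomial (Fin n) P) A T']
    [IsScalarTower P A T'] [IsScalarTower P (MvPolynomial (Fin n) P) T'] (g0 : A) [IsLocalization.Away g0 T]
    (d : T) [IsLocalization.Away d T']
    (ψ : A →+* B) (hχ : Function.Surjective (ψ.comp (algebraMap P A)))
    (k : RegImm.Kind) (hk : k = .h1 ∨ k = .quasi) {l t : ℕ} (m : Fin l → T)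
    (hm1 : k = .h1 → CAlgX.IsH1Regular m) (hm2 : k = .quasi → CAlgX.IsQuasiRegular m)
    (hmK : (RingHom.ker ψ).map (algebraMap A T) = Ideal.span (Set.range m))
    (ρ : Fin n → P) (hρ : ∀ p, ψ (algebraMap (MvPolynomial (Fin n) P) A (X p - C (ρ p))) = 0)
    (g' : Fin t → T') (hn : n + t = l) (M N : Matrix (Fin (n + t)) (Fin (n + t)) T') (hMN : M * N = 1)
    (hM : M.mulVec (fun q => algebraMap T T' (m (Fin.cast hn q))) = Fin.append
      (fun p => algebraMap T T' (algebraMap A T (algebraMap (MvPolynomial (Fin n) P) A (X p - C (ρ p))))) g')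
    (hN : N.mulVec (Fin.append
      (fun p => algebraMap T T' (algebraMap A T (algebraMap (MvPolynomial (Fin n) P) A (X p - C (ρ p))))) g') =
      fun q => algebraMap T T' (m (Fin.cast hn q)))
    (Q : Ideal P) (hQ : Q.IsPrime) (hJQ : RingHom.ker (ψ.comp (algebraMap P A)) ≤ Q)
    (𝔓' : Ideal T') [𝔓'.IsPrime] (hK𝔓' : (RingHom.ker ψ).map (algebraMap A T') ≤ 𝔓')
    (h𝔓Q : 𝔓'.comap (algebraMap P T') = Q) :
    ∃ g : P, g ∉ Q ∧ ∃ rs : List (Localization.Away g), k.Seq (Localization.Away g) rs ∧
      Ideal.ofList rs = (RingHom.ker (ψ.comp (algebraMap P A))).map (algebraMap P (Localization.Away g)) := by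
  classical
  have hk' : k ≠ .regular := by rcases hk with rfl | rfl <;> simp
  haveI : Module.Flat T T' := IsLocalization.flat T' (Submonoid.powers d)
  let t' : Fin n → T' := fun p => algebraMap T T' (algebraMap A T (algebraMap (MvPolynomial (Fin n) P) A (X p - C (ρ p))))
  have ht'A : ∀ p, t' p = algebraMap A T' (algebraMap (MvPolynomial (Fin n) P) A (X p - C (ρ p))) := fun p =>
    (IsScalarTower.algebraMap_apply A T T' _).symm
  let Ā := T' ⧸ Ideal.span (Set.range t')
  let π : T' →+* Ā := Ideal.Quotient.mk _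
  have hπker : RingHom.ker π = Ideal.span (Set.range t') := Ideal.mk_ker
  obtain ⟨hseq, hsp⟩ := seq_exchange_tail hk (fun q => algebraMap T T' (m q))
    (fun h => isH1Regular_flat_map m (hm1 h)) (fun h => isQuasiRegular_flat_map m (hm2 h))
    t' g' hn M N hMN hM hN π Ideal.Quotient.mk_surjective hπker
  have hKT' : (RingHom.ker ψ).map (algebraMap A T') = Ideal.span (Set.range (Fin.append t' g')) := by
    rw [IsScalarTower.algebraMap_eq A T T', ← Ideal.map_map, hmK, Ideal.map_span, ← Set.range_comp, hsp]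
    rfl
  let J : Ideal P := RingHom.ker (ψ.comp (algebraMap P A))
  let KA : Ideal Ā := ((RingHom.ker ψ).map (algebraMap A T')).map π
  have hKA : KA = Ideal.ofList (List.ofFn fun p => π (g' p)) := by
    show Ideal.map π _ = _
    rw [hKT', range_append, Ideal.span_union, Ideal.map_sup,
      (Ideal.map_eq_bot_iff_le_ker π).2 hπker.ge, bot_sup_eq, Ideal.map_span, ← Set.range_comp,
      RegNear.ofList_ofFn]
    rfl
  have hPĀ' : algebraMap P Ā = (π.comp (algebraMap A T')).comp (algebraMap P A) := RingHom.ext fun r => by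
    rw [IsScalarTower.algebraMap_apply P T' Ā, IsScalarTower.algebraMap_apply P A T']
    rfl
  let JA : Ideal Ā := J.map (algebraMap P Ā)
  have hJK : JA ≤ KA := by
    show J.map _ ≤ Ideal.map π _
    rw [Ideal.map_map, Ideal.map_le_iff_le_comap]
    intro r hr
    rw [Ideal.mem_comap, hPĀ']
    exact Ideal.mem_map_of_mem (π.comp (algebraMap A T')) (show algebraMap P A r ∈ RingHom.ker ψ from hr)
  have hφC : (algebraMap (MvPolynomial (Fin n) P) A).comp C = algebraMap P A :=
    (IsScalarTower.algebraMap_eq P (MvPolynomial (Fin n) P) A).symm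
  have hK2 : KA ≤ JA ⊔ KA * KA := by
    have h0 := ker_le_sup ψ (by rw [hφC]; exact hχ) ρ hρ
    rw [hφC] at h0
    have h1 := Ideal.map_mono (f := π.comp (algebraMap A T')) h0
    rw [Ideal.map_sup, Ideal.map_sup, ← Ideal.map_map _ π, sq, Ideal.map_mul] at h1
    refine h1.trans (sup_le (sup_le ?_ ?_) ?_)
    · rw [Ideal.map_span, Ideal.span_le]
      rintro _ ⟨_, ⟨p, rfl⟩, rfl⟩
      have hz : (π.comp (algebraMap A T')) (algebraMap (MvPolynomial (Fin n) P) A (X p - C (ρ p))) = 0 := by
        show π _ = 0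
        rw [← RingHom.mem_ker, hπker, ← ht'A]
        exact Ideal.subset_span ⟨p, rfl⟩
      rw [hz]
      exact zero_mem _
    · refine le_sup_of_le_left (le_of_eq ?_)
      rw [Ideal.map_map, ← hPĀ']
    · refine le_sup_of_le_right ?_
      rw [← Ideal.map_map _ π]
  have htle : RingHom.ker π ≤ 𝔓' := by
    rw [hπker, Ideal.span_le]
    rintro _ ⟨p, rfl⟩
    rw [ht'A]
    exact hK𝔓' (Ideal.mem_map_of_mem _ (RingHom.mem_ker.2 (hρ p)))
  let PĀ : Ideal Ā := 𝔓'.map π
  haveI : PĀ.IsPrime := Ideal.map_isPrime_of_surjective Ideal.Quotient.mk_surjective htle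
  have hPĀQ : PĀ.comap (algebraMap P Ā) = Q := by
    have h1 : algebraMap P Ā = π.comp (algebraMap P T') := IsScalarTower.algebraMap_eq P T' Ā
    rw [h1, ← Ideal.comap_comap, Ideal.comap_map_of_surjective _ Ideal.Quotient.mk_surjective,
      ← RingHom.ker_eq_comap_bot, sup_eq_left.2 htle, h𝔓Q]
  obtain ⟨e0, he0P, he0⟩ := exists_notMem_mul_le KA JA
    (by rw [hKA]; exact Submodule.fg_span (List.finite_toSet _)) hJK hK2 PĀ (Ideal.map_mono hK𝔓')
  let U := Localization.Away e0
  haveI : Module.Flat Ā U := IsLocalization.flat U (Submonoid.powers e0)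
  have hKU : KA.map (algebraMap Ā U) = J.map (algebraMap P U) := by
    rw [IsScalarTower.algebraMap_eq P Ā U, ← Ideal.map_map]
    refine le_antisymm (Ideal.map_le_iff_le_comap.2 fun x hx => ?_) (Ideal.map_mono hJK)
    rw [Ideal.mem_comap, ← Ideal.unit_mul_mem_iff_mem _ (IsLocalization.Away.algebraMap_isUnit (S := U) e0), ← map_mul]
    exact Ideal.mem_map_of_mem _ (he0 x hx)
  have hdisU : Disjoint (Submonoid.powers e0 : Set Ā) PĀ := by
    rw [Set.disjoint_left]
    rintro _ ⟨m, rfl⟩ hm
    exact he0P (Ideal.IsPrime.mem_of_pow_mem inferInstance m hm)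
  let PU : PrimeSpectrum U :=
    ⟨PĀ.map (algebraMap Ā U), IsLocalization.isPrime_of_isPrime_disjoint _ U PĀ inferInstance hdisU⟩
  have hPU : PU.asIdeal.comap (algebraMap P U) = Q := by
    have hcm : PU.asIdeal.comap (algebraMap Ā U) = PĀ :=
      IsLocalization.comap_map_of_isPrime_disjoint _ U inferInstance hdisU
    rw [IsScalarTower.algebraMap_eq P Ā U, ← Ideal.comap_comap, hcm, hPĀQ]
  haveI : Module.Flat A T := IsLocalization.flat T (Submonoid.powers g0)
  haveI : Module.Flat A T' := Module.Flat.trans A T T'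
  haveI : Module.Flat (MvPolynomial (Fin n) P) T' := Module.Flat.trans _ A T'
  haveI : Module.Flat P Ā := flat_quot_coords ρ t' fun p => by
    rw [ht'A, ← IsScalarTower.algebraMap_apply]
  haveI : Module.Flat P U := Module.Flat.trans P Ā U
  haveI : Algebra.FinitePresentation P A := Algebra.FinitePresentation.trans P (MvPolynomial (Fin n) P) A
  haveI : Algebra.FinitePresentation A T := IsLocalization.Away.finitePresentation g0
  haveI : Algebra.FinitePresentation T T' := IsLocalization.Away.finitePresentation d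
  haveI : Algebra.FinitePresentation A T' := Algebra.FinitePresentation.trans A T T'
  haveI : Algebra.FinitePresentation P T' := Algebra.FinitePresentation.trans P A T'
  haveI : Algebra.FinitePresentation P Ā :=
    Algebra.FinitePresentation.quotient (Submodule.fg_span (Set.finite_range _))
  haveI : Algebra.FinitePresentation Ā U := IsLocalization.Away.finitePresentation e0
  haveI : Algebra.FinitePresentation P U := Algebra.FinitePresentation.trans P Ā U
  exact descend_of_chart k hk' J Q hQ hJQ PU hPU _ (seq_map k hk' _ hseq)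
    (by rw [← Ideal.map_ofList, ← hKA, hKU])

/-- Descent of the kinds along a standard smooth map with a closed section. -/
theorem locSeq_of_etale_coords {P A B : Type u} [CommRing P] [CommRing A] [CommRing B] {n : ℕ}
    [Algebra P A] [Algebra (MvPolynomial (Fin n) P) A] [IsScalarTower P (MvPolynomial (Fin n) P) A]
    [Algebra.Etale (MvPolynomial (Fin n) P) A]
    (ψ : A →+* B) (hχ : Function.Surjective (ψ.comp (algebraMap P A)))
    (k : RegImm.Kind) (hk : k = .h1 ∨ k = .quasi) (h : LocSeq k (RingHom.ker ψ)) :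
    LocSeq k (RingHom.ker (ψ.comp (algebraMap P A))) := by
  classical
  let χ : P →+* B := ψ.comp (algebraMap P A)
  intro Q hQ hJQ
  let QB : Ideal B := Q.map χ
  haveI : QB.IsPrime := Ideal.map_isPrime_of_surjective hχ hJQ
  let PA : Ideal A := QB.comap ψ
  have hPQ : PA.comap (algebraMap P A) = Q := by
    show (Q.map χ).comap χ = Q
    rw [Ideal.comap_map_of_surjective _ hχ, ← RingHom.ker_eq_comap_bot, sup_eq_left]
    exact hJQ
  have hKP : RingHom.ker ψ ≤ PA := Ideal.ker_le_comap ψ
  obtain ⟨g0, hg0, rs, hrs, hrsK⟩ := h PA hKP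
  choose ρ hρ using fun p : Fin n => hχ (ψ (algebraMap (MvPolynomial (Fin n) P) A (X p)))
  have ht0 : ∀ p, ψ (algebraMap (MvPolynomial (Fin n) P) A (X p - C (ρ p))) = 0 := fun p => by
    rw [map_sub, map_sub, sub_eq_zero, ← hρ p]
    exact congrArg ψ (IsScalarTower.algebraMap_apply P (MvPolynomial (Fin n) P) A (ρ p))
  let T := Localization.Away g0
  let 𝔓 : Ideal T := PA.map (algebraMap A T)
  have hdis : Disjoint (Submonoid.powers g0 : Set A) PA := by
    rw [Set.disjoint_left]
    rintro _ ⟨m, rfl⟩ hm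
    exact hg0 (Ideal.IsPrime.mem_of_pow_mem inferInstance m hm)
  haveI : 𝔓.IsPrime := IsLocalization.isPrime_of_isPrime_disjoint _ T PA inferInstance hdis
  have h𝔓P : 𝔓.comap (algebraMap A T) = PA :=
    IsLocalization.comap_map_of_isPrime_disjoint _ T inferInstance hdis
  let KT : Ideal T := (RingHom.ker ψ).map (algebraMap A T)
  have hKT𝔓 : KT ≤ 𝔓 := Ideal.map_mono hKP
  have hKTspan : KT = Ideal.span (Set.range rs.get) := hrsK.symm.trans (RegImmLib.ofList_eq_span_get rs)
  let F : Fin n → T := fun p => algebraMap A T (algebraMap (MvPolynomial (Fin n) P) A (X p - C (ρ p)))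
  have hFK : ∀ p, F p ∈ KT := fun p => Ideal.mem_map_of_mem _ (RingHom.mem_ker.2 (ht0 p))
  have hind : ∀ c : Fin n → T, ∑ p, c p * F p ∈ 𝔓 * Ideal.span (Set.range rs.get) → ∀ p, c p ∈ 𝔓 := fun c hc =>
    coord_indep g0 𝔓 ρ KT hKT𝔓 hFK c (hKTspan ▸ hc)
  have hm𝔓 : ∀ q, rs.get q ∈ 𝔓 := fun q => hKT𝔓 (hKTspan ▸ Ideal.subset_span ⟨q, rfl⟩)
  have hspan : Ideal.span (Set.range F ∪ Set.range (Subtype.val : KT → T)) = Ideal.span (Set.range rs.get) := by
    rw [← hKTspan, Subtype.range_coe_subtype]
    refine le_antisymm (Ideal.span_le.2 ?_) fun r hr => Ideal.subset_span (Or.inr hr)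
    rintro r (⟨p, rfl⟩ | hr)
    exacts [hFK p, hr]
  obtain ⟨d, hd, t, e, hex⟩ := exists_exchange 𝔓 rs.get (seq_rel hk rs hrs) hm𝔓 F _ hspan hind
  obtain ⟨hn, M, N, hMN, hM, hN⟩ := hex (Localization.Away d) (IsLocalization.Away.algebraMap_isUnit d)
  have hdis' : Disjoint (Submonoid.powers d : Set T) 𝔓 := by
    rw [Set.disjoint_left]
    rintro _ ⟨m, rfl⟩ hm
    exact hd (Ideal.IsPrime.mem_of_pow_mem inferInstance m hm)
  haveI : (𝔓.map (algebraMap T (Localization.Away d))).IsPrime :=
    IsLocalization.isPrime_of_isPrime_disjoint _ (Localization.Away d) 𝔓 inferInstance hdis'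
  refine descend_step (T := T) (T' := Localization.Away d) g0 d ψ hχ k hk rs.get
    (fun h => by subst h; exact hrs) (fun h => by subst h; exact hrs) hKTspan ρ ht0 _ hn M N hMN hM hN Q hQ hJQ
    (𝔓.map (algebraMap T (Localization.Away d))) ?_ ?_
  · rw [IsScalarTower.algebraMap_eq A T (Localization.Away d), ← Ideal.map_map]
    exact Ideal.map_mono hKT𝔓
  · have hcm : (𝔓.map (algebraMap T (Localization.Away d))).comap (algebraMap T (Localization.Away d)) = 𝔓 :=
      IsLocalization.comap_map_of_isPrime_disjoint _ (Localization.Away d) inferInstance hdis'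
    rw [IsScalarTower.algebraMap_eq P T (Localization.Away d), ← Ideal.comap_comap, hcm,
      IsScalarTower.algebraMap_eq P A T, ← Ideal.comap_comap, h𝔓P, hPQ]

end Groth.Agent.ConormalFrame
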