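import Groth.Agent.ConormalFrame.H1
import Groth.Agent.KFlatLib.Scheme.GlueD
import Mathlib

/-!
# Splitting a sequence over an open with a frame lifted
-/

set_option autoImplicit false
set_option linter.style.haveILetI false
set_option backward.isDefEq.respectTransparency false
set_option backward.isDefEq.respectTransparency.types false

universe u

open CategoryTheory CategoryTheory.Limits AlgebraicGeometry TopologicalSpace Opposite
open Groth.Agent.H23.Frame

noncomputable section

namespace Groth.Agent.ConormalFrame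

variable {X : Scheme.{u}} {n : ℕ}

/-- The map from the free module given by sections. -/
def descFrame (M : X.Modules) {U : X.Opens} (s : Fin n → Γ(M, U)) :
    FlatMod.freeMod (U : Scheme.{u}) n ⟶ M.restrict U.ι :=
  Sigma.desc fun i => QCoh.homOfTop (P := M.restrict U.ι) (M.presheaf.map (homOfLE U.ι_image_top.le).op (s i))

theorem isIso_descFrame {M : X.Modules} {U : X.Opens} (s : Fin n → Γ(M, U)) (hs : IsFrame M s) :
    IsIso (descFrame M s) := by
  have hU : U.ι ''ᵁ ⊤ ≤ U := U.ι_image_top.le
  let φ := descFrame M s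
  show IsIso φ
  refine Scheme.Modules.Hom.isIso_iff_isIso_app.mpr fun W' => ?_
  rw [ConcreteCategory.isIso_iff_bijective]
  have hb := (H23.Frame.incl_isFrame (X := (U : Scheme.{u})) (n := n)) W' le_top
  have hle : U.ι ''ᵁ W' ≤ U := (Scheme.Hom.image_mono U.ι le_top).trans hU
  have key : (fun x => φ.app W' x) ∘ comb (FlatMod.freeMod (U : Scheme.{u}) n)
        (fun i => (incl (U : Scheme.{u}) n i).app ⊤ (one ⊤)) W' le_top = comb M s (U.ι ''ᵁ W') hle := by
    funext c
    simp only [Function.comp, comb, map_sum]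
    refine Finset.sum_congr rfl fun i _ => ?_
    refine (Scheme.Modules.Hom.app_smul φ (M := FlatMod.freeMod (U : Scheme.{u}) n) _ _).trans ?_
    refine (restrict_smul U W' (c i) _).trans ?_
    refine congrArg (fun m : Γ(M, U.ι ''ᵁ W') => (show Γ(X, U.ι ''ᵁ W') from c i) • m) ?_
    rw [app_one_res (incl (U : Scheme.{u}) n i) (le_top (a := W'))]
    show (incl (U : Scheme.{u}) n i ≫ φ).app W' (one W') = _
    simp only [φ, descFrame]
    rw [incl, Sigma.ι_desc]
    refine (QCoh.homOfTop_app _ _).trans ?_
    refine (one_smul Γ((U : Scheme.{u}), W') _).trans ?_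
    show M.presheaf.map (U.ι.opensFunctor.map (homOfLE (le_top (a := W')))).op
      (M.presheaf.map (homOfLE hU).op (s i)) = _
    rw [← ConcreteCategory.comp_apply, ← M.presheaf.map_comp]
    rfl
  exact (Function.Bijective.of_comp_iff _ hb).mp (key ▸ hs _ hle)

theorem exists_section_of_lift {M N : X.Modules} (g : M ⟶ N) {U : X.Opens} (t : Fin n → Γ(M, U))
    (s : Fin n → Γ(N, U)) (hts : ∀ i, g.app U (t i) = s i) (hs : IsFrame N s) :
    ∃ σ : (Scheme.Modules.restrictFunctor U.ι).obj N ⟶ (Scheme.Modules.restrictFunctor U.ι).obj M,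
      σ ≫ (Scheme.Modules.restrictFunctor U.ι).map g = 𝟙 _ := by
  haveI := isIso_descFrame s hs
  have h : descFrame M t ≫ (Scheme.Modules.restrictFunctor U.ι).map g = descFrame N s := by
    refine Sigma.hom_ext _ _ fun i => ?_
    simp only [descFrame, Sigma.ι_desc_assoc, Sigma.ι_desc]
    ext W a
    show g.app (U.ι ''ᵁ W) ((QCoh.homOfTop (P := M.restrict U.ι) _).app W a) = _
    rw [QCoh.homOfTop_app, QCoh.homOfTop_app]
    refine (Scheme.Modules.Hom.app_smul g (M := M) _ _).trans (congrArg _ ?_)
    refine (ConcreteCategory.congr_hom (g.mapPresheaf.naturality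
      (U.ι.opensFunctor.map (homOfLE (le_top (a := W)))).op) _).trans ?_
    refine congrArg (N.presheaf.map _) ?_
    refine (ConcreteCategory.congr_hom (g.mapPresheaf.naturality (homOfLE U.ι_image_top.le).op) (t i)).trans ?_
    exact congrArg _ (hts i)
  refine ⟨inv (descFrame N s) ≫ descFrame M t, ?_⟩
  rw [Category.assoc, h, IsIso.inv_hom_id]

end Groth.Agent.ConormalFrame
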