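import Groth.Agent.ConormalFrame.Regular
import Groth.Agent.ConormalFrame.Exchange
import Groth.Agent.RegImmLib.EtDescent
import Groth.Agent.RegImmLib.Basic
import Groth.Agent.RegImmLib.RegComp
import Groth.Agent.LinType.QReg
import Mathlib

/-!
# Permanence of kinds of regularity along split conormal sequences
-/

set_option backward.isDefEq.respectTransparency false
set_option backward.isDefEq.respectTransparency.types false
set_option linter.style.haveILetI false
set_option maxHeartbeats 1000000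
set_option autoImplicit false

universe u

open CategoryTheory CategoryTheory.Limits AlgebraicGeometry TopologicalSpace Opposite IsLocalRing

namespace Groth.Agent.ConormalFrame

open Groth.Agent Groth.Agent.Synt29.ConormalStalk Groth.Agent.Synt29 OmegaStalk
open Groth.Agent.KRegLib Groth.Agent.RegImmLib
open Groth.Agent.WiebeLib (IsExact)

variable {Z Y X : Scheme.{u}} (i : Z ⟶ Y) (j : Y ⟶ X)

theorem isClosedImmersion_restrict_coborder [IsImmersion j] : IsClosedImmersion (j ∣_ j.coborderRange) := by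
  have hpre : j ⁻¹ᵁ j.coborderRange = ⊤ := top_le_iff.1 fun y _ => subset_coborder ⟨y, rfl⟩
  haveI : IsIso (j ⁻¹ᵁ j.coborderRange).ι := by
    rw [hpre]
    exact inferInstanceAs (IsIso (Scheme.topIso Y).hom)
  have h : j ∣_ j.coborderRange = (j ⁻¹ᵁ j.coborderRange).ι ≫ j.liftCoborder := by
    rw [← cancel_mono j.coborderRange.ι, morphismRestrict_ι, Category.assoc, Scheme.Hom.liftCoborder_ι]
  rw [h]
  infer_instance

/-- Restricting a chart to a basic open. -/
theorem restrict_chart {k : RegImm.Kind} (hk : k ≠ .regular) {U : X.Opens} (hU : IsAffineOpen U)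
    [IsClosedImmersion (j ∣_ U)] (rs : List Γ(X, U)) (hrs : k.Seq Γ(X, U) rs)
    (hker : RingHom.ker (j.app U).hom = Ideal.ofList rs) (g : Γ(X, U)) (O : X.Opens) (hO : O = X.basicOpen g) :
    IsClosedImmersion (j ∣_ O) ∧ ∃ rs' : List Γ(X, O), k.Seq Γ(X, O) rs' ∧
      RingHom.ker (j.app O).hom = Ideal.ofList rs' := by
  subst hO
  obtain ⟨hU', hs⟩ := Synt29.surjective_app_of_isClosedImmersion_restrict j U hU
  letI : Algebra Γ(X, U) Γ(X, X.basicOpen g) := (X.presheaf.map (homOfLE (X.basicOpen_le g)).op).hom.toAlgebra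
  haveI : IsLocalization.Away g Γ(X, X.basicOpen g) := hU.isLocalization_basicOpen g
  haveI : Module.Flat Γ(X, U) Γ(X, X.basicOpen g) := IsLocalization.flat _ (Submonoid.powers g)
  refine ⟨isClosedImmersion_restrict_of_le j (X.basicOpen_le g), _, seq_map (S := Γ(X, X.basicOpen g)) k hk rs hrs, ?_⟩
  rw [(KRegLib.app_basicOpen_props j hU hU' hs g).2.2, hker, Ideal.map_ofList]
  rfl

/-- The exchange step: generators of the ideal of `Y` start the equations of `Z`. -/
theorem exists_split_chart [IsImmersion i] [IsImmersion j] [QuasiCompact i] [QuasiCompact j]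
    (a : (Scheme.Modules.pullback i).obj (Omega.conormal j) ⟶ Omega.conormal (i ≫ j))
    (ha : OmegaSh.IsConormalMap (i ≫ j) j (𝟙 X) i a) (z : Z)
    (R : St (Omega.conormal (i ≫ j)) z →ₗ[Z.presheaf.stalk z]
      St ((Scheme.Modules.pullback i).obj (Omega.conormal j)) z)
    (hR : ∀ w, R ((DerSch.stalkFunctor Z z).map a w) = w)
    {W : X.Opens} (hW : IsAffineOpen W) (hx : j (i z) ∈ W)
    [IsClosedImmersion (j ∣_ W)] [IsClosedImmersion ((i ≫ j) ∣_ W)]
    {r : ℕ} (F : Fin r → Γ(X, W)) (hkF : RingHom.ker (j.app W).hom = Ideal.span (Set.range F))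
    (hFrel : ∀ c : Fin r → X.presheaf.stalk (j (i z)),
      ∑ k, c k * X.presheaf.germ W (j (i z)) hx (F k) = 0 → ∀ k, c k ∈ maximalIdeal _)
    {l : ℕ} (h : Fin l → Γ(X, W)) (hkh : RingHom.ker ((i ≫ j).app W).hom = Ideal.span (Set.range h))
    (hrel : ∀ c : Fin l → Γ(X, W), ∑ k, c k * h k = 0 → ∀ k, c k ∈ Ideal.span (Set.range h)) :
    ∃ d : Γ(X, W), j (i z) ∈ X.basicOpen d ∧
      letI : Algebra Γ(X, W) Γ(X, X.basicOpen d) := (X.presheaf.map (homOfLE (X.basicOpen_le d)).op).hom.toAlgebra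
      ∃ (t : ℕ) (g : Fin t → Γ(X, X.basicOpen d)) (hn : r + t = l)
        (M N : Matrix (Fin (r + t)) (Fin (r + t)) Γ(X, X.basicOpen d)), M * N = 1 ∧
        M.mulVec (fun k => algebraMap Γ(X, W) _ (h (Fin.cast hn k))) =
          Fin.append (fun k => algebraMap Γ(X, W) _ (F k)) g ∧
        N.mulVec (Fin.append (fun k => algebraMap Γ(X, W) _ (F k)) g) =
          (fun k => algebraMap Γ(X, W) _ (h (Fin.cast hn k))) ∧
        RingHom.ker (j.app (X.basicOpen d)).hom = Ideal.span (Set.range fun k => algebraMap Γ(X, W) _ (F k)) ∧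
        RingHom.ker ((i ≫ j).app (X.basicOpen d)).hom =
          Ideal.span (Set.range (Fin.append (fun k => algebraMap Γ(X, W) _ (F k)) g)) := by
  classical
  let 𝔓 : Ideal Γ(X, W) := (hW.primeIdealOf ⟨j (i z), hx⟩).asIdeal
  let S := X.presheaf.stalk (j (i z))
  letI : Algebra Γ(X, W) S := X.presheaf.algebra_section_stalk ⟨j (i z), hx⟩
  haveI := hW.isLocalization_stalk ⟨j (i z), hx⟩
  have hmem : ∀ r, algebraMap Γ(X, W) S r ∈ IsLocalRing.maximalIdeal S ↔ r ∈ 𝔓 :=
    fun r => IsLocalization.AtPrime.to_map_mem_maximal_iff S 𝔓 r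
  obtain ⟨hjW, hjs⟩ := Synt29.surjective_app_of_isClosedImmersion_restrict j W hW
  obtain ⟨hcW, hcs⟩ := Synt29.surjective_app_of_isClosedImmersion_restrict (i ≫ j) W hW
  have hkI : RingHom.ker (j.stalkMap (i z)).hom = Ideal.span (Set.range fun k => algebraMap Γ(X, W) S (F k)) := by
    rw [RegNear.ker_stalkMap_of_surjective j (i z) hW hjW hjs hx, hkF, Ideal.map_span, ← Set.range_comp]
    rfl
  have hkJ : (RingHom.ker ((i ≫ j).stalkMap z).hom : Ideal S) =
      (RingHom.ker ((i ≫ j).app W).hom).map (algebraMap Γ(X, W) S) :=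
    RegNear.ker_stalkMap_of_surjective (i ≫ j) z hW hcW hcs hx
  have hm𝔓 : ∀ k, h k ∈ 𝔓 := fun k => (hmem _).1 ((IsLocalRing.le_maximalIdeal
    (RingHom.ker_ne_top ((i ≫ j).stalkMap z).hom) : (RingHom.ker ((i ≫ j).stalkMap z).hom : Ideal S) ≤ _) (by
      rw [hkJ, hkh]
      exact Ideal.mem_map_of_mem _ (Ideal.subset_span ⟨k, rfl⟩)))
  -- independence of the equations of `Y`
  have hind : ∀ c : Fin r → Γ(X, W), ∑ k, c k * F k ∈ 𝔓 * Ideal.span (Set.range h) → ∀ k, c k ∈ 𝔓 := by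
    intro c hc
    let e : S := algebraMap Γ(X, W) S (∑ k, c k * F k)
    have heI : e ∈ RingHom.ker (j.stalkMap (i z)).hom := by
      rw [hkI]
      simp only [e, map_sum, map_mul]
      exact Ideal.sum_mem _ fun k _ => Ideal.mul_mem_left _ _ (Ideal.subset_span ⟨k, rfl⟩)
    have heJ : e ∈ IsLocalRing.maximalIdeal S * (RingHom.ker ((i ≫ j).stalkMap z).hom : Ideal S) := by
      rw [hkJ, hkh]
      have h1 := Ideal.mem_map_of_mem (algebraMap Γ(X, W) S) hc
      rw [Ideal.map_mul] at h1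
      exact Ideal.mul_mono_left (Ideal.map_le_iff_le_comap.2 fun r hr => Ideal.mem_comap.2 ((hmem r).2 hr)) h1
    have he2 := mem_mul_of_split j i a ha z R hR e heI heJ
    rw [hkI] at he2
    obtain ⟨a', ha', hae⟩ := (Submodule.mem_ideal_smul_span_iff_exists_sum (IsLocalRing.maximalIdeal S)
      (fun k => algebraMap Γ(X, W) S (F k)) e).1 he2
    rw [Finsupp.sum_fintype _ _ (fun k => by exact zero_smul _ _)] at hae
    have hrel' : ∑ k, (algebraMap Γ(X, W) S (c k) - a' k) * algebraMap Γ(X, W) S (F k) = 0 := by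
      simp only [sub_mul, Finset.sum_sub_distrib]
      rw [sub_eq_zero]
      refine Eq.trans ?_ hae.symm
      simp only [e, map_sum, map_mul]
    intro k
    refine (hmem _).1 ?_
    simpa using add_mem (hFrel _ hrel' k) (ha' k)
  -- exchange
  have hkij : RingHom.ker (j.app W).hom ≤ RingHom.ker ((i ≫ j).app W).hom := fun r hr => by
    rw [RingHom.mem_ker] at hr ⊢
    show (i.app (j ⁻¹ᵁ W)).hom ((j.app W).hom r) = 0
    rw [hr, map_zero]
  have hspan : Ideal.span (Set.range F ∪ Set.range (Subtype.val : RingHom.ker ((i ≫ j).app W).hom → Γ(X, W))) =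
      Ideal.span (Set.range h) := by
    rw [← hkh, Subtype.range_coe_subtype]
    refine le_antisymm (Ideal.span_le.2 ?_) fun r hr => Ideal.subset_span (Or.inr hr)
    rintro r (⟨k, rfl⟩ | hr)
    · exact hkij (hkF ▸ Ideal.subset_span ⟨k, rfl⟩)
    · exact hr
  obtain ⟨d, hd, t, e, hex⟩ := exists_exchange 𝔓 h hrel hm𝔓 F _ hspan hind
  refine ⟨d, ?_, ?_⟩
  · rw [X.mem_basicOpen _ _ hx]
    exact (IsLocalization.map_units S (⟨d, hd⟩ : 𝔓.primeCompl) :)
  letI : Algebra Γ(X, W) Γ(X, X.basicOpen d) := (X.presheaf.map (homOfLE (X.basicOpen_le d)).op).hom.toAlgebra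
  haveI : IsLocalization.Away d Γ(X, X.basicOpen d) := hW.isLocalization_basicOpen d
  haveI : Module.Flat Γ(X, W) Γ(X, X.basicOpen d) := IsLocalization.flat _ (Submonoid.powers d)
  obtain ⟨hn, M, N, hMN, hM, hN⟩ := hex Γ(X, X.basicOpen d)
    (IsLocalization.map_units Γ(X, X.basicOpen d) (⟨d, 1, pow_one d⟩ : Submonoid.powers d))
  refine ⟨t, _, hn, M, N, hMN, hM, hN, ?_, ?_⟩
  · refine (KRegLib.app_basicOpen_props j hW hjW hjs d).2.2.trans ?_
    rw [hkF, Ideal.map_span, ← Set.range_comp]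
    rfl
  · refine (KRegLib.app_basicOpen_props (i ≫ j) hW hcW hcs d).2.2.trans ((congrArg (Ideal.map _) hkh).trans ?_)
    rw [Ideal.map_span, ← Set.range_comp]
    refine le_antisymm (Ideal.span_le.2 ?_) (Ideal.span_le.2 ?_)
    · rintro _ ⟨k, rfl⟩
      have hk : k = Fin.cast hn (Fin.cast hn.symm k) := Fin.ext rfl
      rw [hk]
      show algebraMap Γ(X, W) Γ(X, X.basicOpen d) (h (Fin.cast hn (Fin.cast hn.symm k))) ∈ Ideal.span _
      rw [← congrFun hN (Fin.cast hn.symm k)]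
      simp only [Matrix.mulVec, dotProduct]
      exact Ideal.sum_mem _ fun p _ => Ideal.mul_mem_left _ _ (Ideal.subset_span (Set.mem_range_self p))
    · rintro _ ⟨k, rfl⟩
      rw [← congrFun hM k]
      simp only [SetLike.mem_coe, Matrix.mulVec, dotProduct]
      exact Ideal.sum_mem _ fun p _ => Ideal.mul_mem_left _ _ (Ideal.subset_span (Set.mem_range_self (Fin.cast hn p)))

/-- From a sequence for the composite to one for the first map. -/
theorem regularImmersionAt_of_tail (k : RegImm.Kind) {W : X.Opens} (hW : IsAffineOpen W) (z : Z)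
    (hx : j (i z) ∈ W) [IsClosedImmersion (j ∣_ W)] [IsClosedImmersion ((i ≫ j) ∣_ W)]
    {r t : ℕ} (F : Fin r → Γ(X, W)) (g : Fin t → Γ(X, W))
    (hkF : RingHom.ker (j.app W).hom = Ideal.span (Set.range F))
    (hkG : RingHom.ker ((i ≫ j).app W).hom = Ideal.span (Set.range (Fin.append F g)))
    (hseq : k.Seq Γ(Y, j ⁻¹ᵁ W) (List.ofFn fun p => (j.app W).hom (g p))) :
    RegImm.IsRegularImmersionAt k i z := by
  obtain ⟨hjW, hjs⟩ := Synt29.surjective_app_of_isClosedImmersion_restrict j W hW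
  haveI : IsClosedImmersion ((i ∣_ (j ⁻¹ᵁ W)) ≫ (j ∣_ W)) := by
    rw [← morphismRestrict_comp]
    assumption
  haveI : IsClosedImmersion (i ∣_ (j ⁻¹ᵁ W)) :=
    IsClosedImmersion.of_comp (i ∣_ (j ⁻¹ᵁ W)) (j ∣_ W)
  refine ⟨⟨j ⁻¹ᵁ W, hjW⟩, hx, inferInstance, _, hseq, ?_⟩
  have h1 : RingHom.ker (i.app (j ⁻¹ᵁ W)).hom = (RingHom.ker ((i ≫ j).app W).hom).map (j.app W).hom := by
    show _ = (RingHom.ker ((i.app (j ⁻¹ᵁ W)).hom.comp (j.app W).hom)).map _
    rw [← RingHom.comap_ker, Ideal.map_comap_of_surjective _ hjs]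
  rw [h1, hkG, range_append, Ideal.span_union, Ideal.map_sup, ← hkF,
    (Ideal.map_eq_bot_iff_le_ker _).2 le_rfl, bot_sup_eq, Ideal.map_span, ← Set.range_comp,
    RegNear.ofList_ofFn]
  rfl

/-- Minimal generators of the ideal of an immersion of finite presentation near a point. -/
theorem exists_minimal_chart [IsImmersion j] [LocallyOfFinitePresentation j] (y : Y) {W : X.Opens}
    (hW : IsAffineOpen W) (hy : j y ∈ W) [IsClosedImmersion (j ∣_ W)] :
    ∃ d : Γ(X, W), ∃ hd : j y ∈ X.basicOpen d, ∃ (r : ℕ) (F : Fin r → Γ(X, X.basicOpen d)),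
      RingHom.ker (j.app (X.basicOpen d)).hom = Ideal.span (Set.range F) ∧
      ∀ c : Fin r → X.presheaf.stalk (j y),
        ∑ k, c k * X.presheaf.germ _ (j y) hd (F k) = 0 → ∀ k, c k ∈ maximalIdeal _ := by
  classical
  let 𝔓 : Ideal Γ(X, W) := (hW.primeIdealOf ⟨j y, hy⟩).asIdeal
  let S := X.presheaf.stalk (j y)
  letI : Algebra Γ(X, W) S := X.presheaf.algebra_section_stalk ⟨j y, hy⟩
  haveI := hW.isLocalization_stalk ⟨j y, hy⟩
  obtain ⟨hjW, hjs⟩ := Synt29.surjective_app_of_isClosedImmersion_restrict j W hW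
  have hfp : (j.app W).hom.FinitePresentation := by
    have := j.finitePresentation_appLE hW hjW le_rfl
    rwa [← Scheme.Hom.app_eq_appLE] at this
  have hfg : (RingHom.ker (j.app W).hom).FG := by
    letI : Algebra Γ(X, W) Γ(Y, j ⁻¹ᵁ W) := (j.app W).hom.toAlgebra
    haveI : Algebra.FinitePresentation Γ(X, W) Γ(Y, j ⁻¹ᵁ W) := hfp
    exact Algebra.FinitePresentation.ker_fG_of_surjective (Algebra.ofId Γ(X, W) Γ(Y, j ⁻¹ᵁ W)) hjs
  obtain ⟨p, f₀, hf₀⟩ := Submodule.fg_iff_exists_fin_generating_family.1 hfg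
  have hex : ∃ r, ∃ F : Fin r → Γ(X, W), (∀ k, F k ∈ RingHom.ker (j.app W).hom) ∧
      Ideal.span (Set.range fun k => algebraMap Γ(X, W) S (F k)) =
        (RingHom.ker (j.app W).hom).map (algebraMap Γ(X, W) S) := by
    refine ⟨p, f₀, fun k => hf₀ ▸ Submodule.subset_span ⟨k, rfl⟩, ?_⟩
    rw [← show Ideal.span (Set.range f₀) = RingHom.ker (j.app W).hom from hf₀, Ideal.map_span, ← Set.range_comp]
    rfl
  obtain ⟨F, hFI, hFS⟩ := Nat.find_spec hex
  have hFrel : ∀ c : Fin (Nat.find hex) → S,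
      ∑ k, c k * algebraMap Γ(X, W) S (F k) = 0 → ∀ k, c k ∈ maximalIdeal S := by
    intro c hc k
    by_contra hk
    obtain ⟨m, hm⟩ : ∃ m, Nat.find hex = m + 1 := Nat.exists_eq_succ_of_ne_zero (by have := k.2; omega)
    have key : ∀ (n : ℕ) (F : Fin n → Γ(X, W)) (c : Fin n → S) (k : Fin n), n = m + 1 →
        (∀ k, F k ∈ RingHom.ker (j.app W).hom) →
        Ideal.span (Set.range fun k => algebraMap Γ(X, W) S (F k)) =
          (RingHom.ker (j.app W).hom).map (algebraMap Γ(X, W) S) →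
        ∑ k, c k * algebraMap Γ(X, W) S (F k) = 0 → IsUnit (c k) →
        ∃ F' : Fin m → Γ(X, W), (∀ k, F' k ∈ RingHom.ker (j.app W).hom) ∧
          Ideal.span (Set.range fun k => algebraMap Γ(X, W) S (F' k)) =
            (RingHom.ker (j.app W).hom).map (algebraMap Γ(X, W) S) := by
      rintro n F c k rfl hFI hFS hc hk
      refine ⟨F ∘ k.succAbove, fun q => hFI _, Eq.trans ?_ hFS⟩
      have h1 := span_sup_drop (⊥ : Ideal S) (fun k => algebraMap Γ(X, W) S (F k)) c k hk
        (by rw [Ideal.mem_bot]; exact hc)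
      rwa [sup_bot_eq, sup_bot_eq] at h1
    exact Nat.find_min hex (show m < Nat.find hex by omega) (key _ F c k hm hFI hFS hc (notMem_maximalIdeal.1 hk))
  have hd : ∀ q : Fin p, ∃ d ∈ 𝔓.primeCompl, d * f₀ q ∈ Ideal.span (Set.range F) := fun q => by
    refine (IsLocalization.algebraMap_mem_map_algebraMap_iff 𝔓.primeCompl S _ _).1 ?_
    rw [Ideal.map_span, ← Set.range_comp]
    exact hFS.ge (Ideal.mem_map_of_mem _ (hf₀ ▸ Submodule.subset_span ⟨q, rfl⟩))
  choose d hd𝔓 hdF using hd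
  have hxd : j y ∈ X.basicOpen (∏ q, d q) := by
    rw [X.mem_basicOpen _ _ hy]
    exact (IsLocalization.map_units S (⟨∏ q, d q, Submonoid.prod_mem _ fun q _ => hd𝔓 q⟩ : 𝔓.primeCompl) :)
  letI : Algebra Γ(X, W) Γ(X, X.basicOpen (∏ q, d q)) :=
    (X.presheaf.map (homOfLE (X.basicOpen_le _)).op).hom.toAlgebra
  haveI : IsLocalization.Away (∏ q, d q) Γ(X, X.basicOpen (∏ q, d q)) := hW.isLocalization_basicOpen _
  refine ⟨∏ q, d q, hxd, _, fun k => algebraMap Γ(X, W) _ (F k), ?_, fun c hc => hFrel c ?_⟩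
  · refine (KRegLib.app_basicOpen_props j hW hjW hjs _).2.2.trans (le_antisymm ?_ (Ideal.span_le.2 ?_))
    · refine Ideal.map_le_iff_le_comap.2 ((show RingHom.ker (j.app W).hom ≤ Ideal.span (Set.range f₀) from
        hf₀.ge).trans (Ideal.span_le.2 ?_))
      rintro _ ⟨q, rfl⟩
      have hu : IsUnit (algebraMap Γ(X, W) Γ(X, X.basicOpen (∏ q, d q)) (d q)) :=
        isUnit_of_dvd_unit (map_dvd _ (Finset.dvd_prod_of_mem d (Finset.mem_univ q)))
          (IsLocalization.Away.algebraMap_isUnit _)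
      show algebraMap Γ(X, W) Γ(X, X.basicOpen (∏ q, d q)) (f₀ q) ∈ Ideal.span _
      refine (Ideal.unit_mul_mem_iff_mem _ hu).1 ?_
      have h2 := Ideal.mem_map_of_mem (algebraMap Γ(X, W) Γ(X, X.basicOpen (∏ q, d q))) (hdF q)
      rw [map_mul, Ideal.map_span, ← Set.range_comp] at h2
      exact h2
    · rintro _ ⟨k, rfl⟩
      exact Ideal.mem_map_of_mem _ (hFI k)
  · refine Eq.trans (Finset.sum_congr rfl fun k _ => congrArg (c k * ·) ?_) hc
    exact (TopCat.Presheaf.germ_res_apply X.presheaf (homOfLE (X.basicOpen_le _)) (j y) hxd (F k)).symm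

end Groth.Agent.ConormalFrame
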