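import Mathlib
import Groth.Agent.UnivThick.Ring
import Groth.Agent.ConormalFrame.Thick
import Groth.Agent.ConormalFrame.H1
import Groth.Agent.KRegLib.Kinds

/-! Universal thickenings of quotients of formally etale algebras; frames of conormal sheaves of
square zero thickenings. -/

set_option autoImplicit false
set_option backward.isDefEq.respectTransparency false
set_option backward.isDefEq.respectTransparency.types false

universe u

open CategoryTheory CategoryTheory.Limits AlgebraicGeometry TopologicalSpace Opposite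

namespace Groth.Agent.ConormalFrame

theorem exists_lift_of_formallyEtale {A C B' E : Type u} [CommRing A] [CommRing C] [CommRing B'] [CommRing E]
    [Algebra A C] [Algebra A B'] [Algebra A E] [Algebra.FormallyEtale A E]
    (π : B' →ₐ[A] C) (hu : OmegaSh.IsUnivThickeningRing A C B' π) (q : E →ₐ[A] C) (hq : Function.Surjective q) :
    ∃ ρ : E →ₐ[A] B', π.comp ρ = q ∧ Function.Surjective ρ ∧ ∀ e, ρ e = 0 ↔ e ∈ RingHom.ker q.toRingHom ^ 2 := by
  have hn : IsNilpotent (RingHom.ker (π : B' →+* C)) := ⟨2, hu.2.1⟩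
  let ρ : E →ₐ[A] B' := Algebra.FormallySmooth.liftOfSurjective q π hu.1 hn
  have hρ : ∀ e, π (ρ e) = q e := Algebra.FormallySmooth.liftOfSurjective_apply q π hu.1 hn
  let K : Ideal E := RingHom.ker q.toRingHom
  let T := E ⧸ K ^ 2
  let I : Ideal T := K.map (Ideal.Quotient.mk (K ^ 2))
  have hI : I ^ 2 = ⊥ := by rw [← Ideal.map_pow, Ideal.map_quotient_self]
  let r : E →ₐ[A] T ⧸ I := (Ideal.Quotient.mkₐ A I).comp (Ideal.Quotient.mkₐ A (K ^ 2))
  have hr : ∀ e ∈ K, r e = 0 := fun e he => Ideal.Quotient.eq_zero_iff_mem.2 (Ideal.mem_map_of_mem _ he)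
  let a : C →ₐ[A] T ⧸ I := (Ideal.Quotient.liftₐ K r hr).comp
    (Ideal.quotientKerAlgEquivOfSurjective hq).symm.toAlgHom
  have ha : ∀ e, a (q e) = r e := by
    intro e
    show Ideal.Quotient.liftₐ K r hr ((Ideal.quotientKerAlgEquivOfSurjective hq).symm (q e)) = r e
    rw [show (Ideal.quotientKerAlgEquivOfSurjective hq).symm (q e) = Ideal.Quotient.mk K e from
      (AlgEquiv.symm_apply_eq _).2 rfl]
    rfl
  obtain ⟨a', ha', -⟩ := hu.2.2 T I hI a
  have h1 : a'.comp ρ = Ideal.Quotient.mkₐ A (K ^ 2) := by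
    refine Algebra.FormallyUnramified.ext I ⟨2, hI⟩ fun e => ?_
    exact ((congr($ha' (ρ e))).trans (congrArg a (hρ e))).trans (ha e)
  have hKρ : ∀ e ∈ K, ρ e ∈ RingHom.ker π.toRingHom := fun e he => by
    show π (ρ e) = 0
    rw [hρ]
    exact he
  have h2 : K ^ 2 ≤ RingHom.ker ρ.toRingHom := by
    rw [sq, Ideal.mul_le]
    intro x hx y hy
    have := Ideal.mul_mem_mul (hKρ x hx) (hKρ y hy)
    rw [← sq, hu.2.1, Ideal.mem_bot] at this
    exact (map_mul ρ x y).trans this
  let ρ' : T →ₐ[A] B' := Ideal.Quotient.liftₐ (K ^ 2) ρ fun e he => h2 he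
  let b : C →ₐ[A] B' ⧸ RingHom.ker π.toRingHom := (Ideal.quotientKerAlgEquivOfSurjective hu.1).symm.toAlgHom
  have hb : ∀ x, b (π x) = Ideal.Quotient.mk _ x := fun x => (AlgEquiv.symm_apply_eq _).2 rfl
  have h3 : ρ'.comp a' = AlgHom.id A B' := by
    refine (hu.2.2 B' (RingHom.ker π.toRingHom) hu.2.1 b).unique ?_ ?_
    · refine AlgHom.ext fun x => ?_
      obtain ⟨e, he⟩ := hq (π x)
      show Ideal.Quotient.mk _ (ρ' (a' x)) = b (π x)
      obtain ⟨t, ht⟩ := Ideal.Quotient.mk_surjective (a' x)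
      rw [← ht, hb, Ideal.Quotient.eq]
      show π (ρ t - x) = 0
      rw [map_sub, hρ, ← he]
      have h4 : r t = r e := by
        rw [← ha e, he]
        exact (congrArg (Ideal.Quotient.mk I) ht).trans congr($ha' x)
      have h5 : r (t - e) = 0 := by rw [map_sub, h4, sub_self]
      have h6 : Ideal.Quotient.mk (K ^ 2) (t - e) ∈ I := Ideal.Quotient.eq_zero_iff_mem.1 h5
      rw [Ideal.mem_map_iff_of_surjective _ Ideal.Quotient.mk_surjective] at h6
      obtain ⟨k, hk, hkt⟩ := h6
      have h7 : t - e ∈ K := by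
        have := Ideal.pow_le_self (n := 2) (by norm_num) (Ideal.Quotient.eq.1 hkt)
        simpa using sub_mem hk this
      exact (map_sub q t e).symm.trans h7
    · exact AlgHom.ext fun x => (hb x).symm
  refine ⟨ρ, AlgHom.ext hρ, fun x => ?_, fun e => ⟨fun he => ?_, fun he => h2 he⟩⟩
  · obtain ⟨t, ht⟩ := Ideal.Quotient.mk_surjective (a' x)
    exact ⟨t, (congrArg ρ' ht).trans congr($h3 x)⟩
  · have := congr($h1 e)
    rw [AlgHom.comp_apply, he, map_zero] at this
    exact Ideal.Quotient.eq_zero_iff_mem.1 this.symm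

/-- The image of a Koszul regular sequence in the universal thickening. -/
theorem univ_gens {A C B' E : Type u} [CommRing A] [CommRing C] [CommRing B'] [CommRing E]
    [Algebra A C] [Algebra A B'] [Algebra A E] [Algebra.FormallyEtale A E]
    (π : B' →ₐ[A] C) (hu : OmegaSh.IsUnivThickeningRing A C B' π) (q : E →ₐ[A] C) (hq : Function.Surjective q)
    {n : ℕ} (fs : Fin n → E) (hfs : WiebeLib.IsExact fs) (hker : RingHom.ker q.toRingHom = Ideal.span (Set.range fs)) :
    ∃ f : Fin n → B', RingHom.ker π.toRingHom = Ideal.span (Set.range f) ∧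
      ∀ c : Fin n → B', ∑ j, c j * f j = 0 → ∀ j, π (c j) = 0 := by
  classical
  obtain ⟨ρ, hρ, hρs, hρk⟩ := exists_lift_of_formallyEtale π hu q hq
  have hπρ : ∀ e, π (ρ e) = q e := fun e => congr($hρ e)
  refine ⟨fun j => ρ (fs j), ?_, fun c hc => ?_⟩
  · rw [show (fun j => ρ (fs j)) = ⇑ρ.toRingHom ∘ fs from rfl, Set.range_comp, ← Ideal.map_span, ← hker]
    refine le_antisymm (fun x hx => ?_) (Ideal.map_le_iff_le_comap.2 fun e he => ?_)
    · obtain ⟨e, rfl⟩ := hρs x
      exact Ideal.mem_map_of_mem _ (show q e = 0 from (hπρ e).symm.trans hx)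
    · show π (ρ e) = 0
      rw [hπρ]
      exact he
  choose e he using fun j => hρs (c j)
  have h0 : ∑ j, e j * fs j ∈ RingHom.ker q.toRingHom ^ 2 := (hρk _).1 (by simpa [map_sum, he] using hc)
  rw [sq, hker] at h0
  obtain ⟨d, hd, hdsum⟩ : ∃ d : Fin n → E,
      (∀ j, d j ∈ Ideal.span (Set.range fs)) ∧ ∑ j, d j * fs j = ∑ j, e j * fs j := by
    refine Submodule.mul_induction_on (C := fun y => ∃ d : Fin n → E,
      (∀ j, d j ∈ Ideal.span (Set.range fs)) ∧ ∑ j, d j * fs j = y) h0 (fun u hu v hv => ?_) ?_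
    · obtain ⟨w, hw⟩ := (Submodule.mem_span_range_iff_exists_fun _).1 hv
      refine ⟨fun j => u * w j, fun j => Ideal.mul_mem_right _ _ hu, ?_⟩
      rw [← hw, Finset.mul_sum]
      simp [mul_assoc]
    · rintro y y' ⟨d₁, h₁, e₁⟩ ⟨d₂, h₂, e₂⟩
      exact ⟨d₁ + d₂, fun j => add_mem (h₁ j) (h₂ j), by simp [add_mul, Finset.sum_add_distrib, e₁, e₂]⟩
  intro j
  have hrel : ∀ (p : Fin (List.ofFn fs).length → E), ∑ j, p j * (List.ofFn fs).get j = 0 →
      ∀ j, p j ∈ Ideal.span (Set.range (List.ofFn fs).get) := fun p hp j =>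
    mem_span_of_h1 (KRegLib.h1_of_koszul _ (KoszulFlatLib.isKoszulRegularSeq_of_isExact hfs)) p hp j
  have hg : (List.ofFn fs).get = fs ∘ Fin.cast (List.length_ofFn) := by funext k; simp; rfl
  rw [hg] at hrel
  have hm := hrel (fun k => e (Fin.cast List.length_ofFn k) - d (Fin.cast List.length_ofFn k)) ?_
    (Fin.cast List.length_ofFn.symm j)
  · have hm' : e j - d j ∈ Ideal.span (Set.range fs) :=
      Ideal.span_mono (Set.range_comp_subset_range _ _) hm
    have hej : e j ∈ RingHom.ker q.toRingHom := by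
      rw [hker]
      simpa using add_mem hm' (hd j)
    rw [← he j, hπρ]
    exact hej
  · refine ((finCongr List.length_ofFn).sum_comp fun k => (e k - d k) * fs k).trans ?_
    simp only [sub_mul, Finset.sum_sub_distrib]
    exact sub_eq_zero.2 hdsum.symm

theorem rel_loc {B' C T S : Type u} [CommRing B'] [CommRing C] [CommRing T] [CommRing S] (π : B' →+* C)
    [Algebra B' T] (M : Submonoid B') [IsLocalization M T] (τ : T →+* S) (σ : C →+* S)
    (hc : ∀ b, τ (algebraMap B' T b) = σ (π b)) {n : ℕ} (f : Fin n → B')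
    (h : ∀ c : Fin n → B', ∑ j, c j * f j = 0 → ∀ j, π (c j) = 0) (c : Fin n → T)
    (hc0 : ∑ j, c j * algebraMap B' T (f j) = 0) (j : Fin n) : τ (c j) = 0 := by
  classical
  obtain ⟨s, hs⟩ := IsLocalization.exist_integer_multiples M Finset.univ c
  choose b hb using fun j => hs j (Finset.mem_univ _)
  have hb0 : algebraMap B' T (∑ j, b j * f j) = algebraMap B' T 0 := by
    rw [map_sum, map_zero, ← mul_zero (algebraMap B' T s), ← hc0, Finset.mul_sum]
    refine Finset.sum_congr rfl fun k _ => ?_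
    rw [map_mul, hb, Algebra.smul_def, mul_assoc]
  obtain ⟨m, hm⟩ := (IsLocalization.eq_iff_exists M T).1 hb0
  have h1 := h (fun k => m * b k) (by
    rw [mul_zero, Finset.mul_sum] at hm
    simpa [mul_assoc] using hm) j
  have h2 : τ (algebraMap B' T m * (algebraMap B' T s * c j)) = 0 := by
    rw [← Algebra.smul_def (s : B'), ← hb, ← map_mul, hc, h1, map_zero]
  rw [map_mul, map_mul] at h2
  exact ((((IsLocalization.map_units T s).map τ)).mul_right_eq_zero).1
    ((((IsLocalization.map_units T m).map τ)).mul_right_eq_zero.1 h2)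

open Groth.Agent.Synt29 Groth.Agent.Synt29.OmegaStalk Groth.Agent.Synt29.ConormalStalk
open Groth.Agent.S5974 (Cls cls_of_sect cls_exists cls_sect cls_mem cls_exists_of_mem cls_inj cls_zero_mem_sq)

theorem thick_germs_bijective {Z Z' : Scheme.{u}} (i : Z ⟶ Z') [IsClosedImmersion i] (hi : i.ker * i.ker = ⊥)
    {r : ℕ} (U : Z'.Opens) (f : Fin r → Γ(Z', U)) (s : Fin r → Γ(ClSub.idealMod i.ker, U))
    (hs : ∀ j, OmegaSh.idealSect i.ker U (s j) = f j) (a : Z) (ha : i a ∈ U)
    (hker : RingHom.ker (i.stalkMap a).hom =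
      Ideal.span (Set.range fun j => Z'.presheaf.germ U (i a) ha (f j)))
    (hrel : ∀ c : Fin r → Z'.presheaf.stalk (i a), ∑ j, c j * Z'.presheaf.germ U (i a) ha (f j) = 0 →
      ∀ j, i.stalkMap a (c j) = 0) :
    Function.Bijective fun b : Fin r → Z.presheaf.stalk a =>
      ∑ j, b j • (Omega.conormal i).presheaf.germ (i ⁻¹ᵁ U) a ha (OmegaSh.conormalSect i U (s j)) := by
  classical
  have hval : ∀ C : Fin r → Z'.presheaf.stalk (i a),
      Cls i a (∑ j, i.stalkMap a (C j) • gm (Omega.conormal i) (x := a) ha (OmegaSh.conormalSect i U (s j)))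
        (∑ j, C j * Z'.presheaf.germ U (i a) ha (f j)) := fun C => by
    refine Finset.induction_on (Finset.univ : Finset (Fin r)) ?_ fun j t hj ih => ?_
    · simpa using H1CNSplit.cls_zero i
    · rw [Finset.sum_insert hj, Finset.sum_insert hj]
      exact H1CNSplit.cls_add i (H1CNSplit.cls_smul i (cls_of_sect i ha (s j) _ (by rw [hs])) (C j)) ih
  refine ⟨fun b b' h => ?_, fun z => ?_⟩
  · rw [← sub_eq_zero]
    have h0 : ∑ j, (b - b') j • gm (Omega.conormal i) (x := a) ha (OmegaSh.conormalSect i U (s j)) = 0 := by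
      simp only [Pi.sub_apply, sub_smul, Finset.sum_sub_distrib]
      exact sub_eq_zero.2 h
    generalize b - b' = e at h0 ⊢
    choose C hC using fun j => i.stalkMap_surjective a (e j)
    have h1 := hval C
    simp only [hC] at h1
    rw [h0] at h1
    funext j
    rw [Pi.zero_apply, ← hC j]
    exact hrel C (thick_cls_zero i hi h1) j
  · obtain ⟨x, hx⟩ := cls_exists i a z
    have hmem : x ∈ Ideal.span (Set.range fun j => Z'.presheaf.germ U (i a) ha (f j)) :=
      hker ▸ RingHom.mem_ker.2 (cls_mem i hx)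
    obtain ⟨C, hC⟩ := (Submodule.mem_span_range_iff_exists_fun _).1 hmem
    refine ⟨fun j => i.stalkMap a (C j), cls_inj i (hval C) ?_⟩
    rw [show ∑ j, C j * Z'.presheaf.germ U (i a) ha (f j) = x from hC]
    exact hx

end Groth.Agent.ConormalFrame
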