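import Mathlib
import Groth.Agent.S8679
import Groth.Agent.KRegLib.Pres
import Groth.Agent.KRegLib.Kinds

/-! Injectivity on universal thickenings along local complete intersection maps. -/

set_option autoImplicit false
set_option backward.isDefEq.respectTransparency false
set_option backward.isDefEq.respectTransparency.types false

universe u

open MvPolynomial

namespace Groth.Agent.ConormalFrame

theorem comap_map_away {P' P : Type u} [CommRing P'] [CommRing P] (μ : P' →+* P) (g' : P')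
    (T' T : Type u) [CommRing T'] [CommRing T] [Algebra P' T'] [Algebra P T] [IsLocalization.Away g' T']
    [IsLocalization.Away (μ g') T] (π : T' →+* T) (hπ : ∀ x, π (algebraMap P' T' x) = algebraMap P T (μ x))
    (I : Ideal P) : (I.map (algebraMap P T)).comap π = (I.comap μ).map (algebraMap P' T') := by
  refine le_antisymm (fun y hy => ?_) (Ideal.map_le_iff_le_comap.2 fun x hx => ?_)
  · obtain ⟨e, ⟨_, k, rfl⟩, rfl⟩ := IsLocalization.exists_mk'_eq (Submonoid.powers g') y
    have h1 : algebraMap P T (μ e) ∈ I.map (algebraMap P T) := by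
      rw [← hπ, ← IsLocalization.mk'_spec T' e (⟨g' ^ k, k, rfl⟩ : Submonoid.powers g'), map_mul]
      exact Ideal.mul_mem_right _ _ hy
    rw [← IsLocalization.mk'_one (M := Submonoid.powers (μ g')) T,
      IsLocalization.mk'_mem_map_algebraMap_iff (Submonoid.powers (μ g'))] at h1
    obtain ⟨_, ⟨l, rfl⟩, hl⟩ := h1
    rw [IsLocalization.mk'_mem_map_algebraMap_iff (Submonoid.powers g')]
    exact ⟨g' ^ l, ⟨l, rfl⟩, by rw [Ideal.mem_comap, map_mul, map_pow]; exact hl⟩
  · show π (algebraMap P' T' x) ∈ I.map (algebraMap P T)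
    rw [hπ]
    exact Ideal.mem_map_of_mem _ hx

theorem isH1Regular_of_isExact {R : Type u} [CommRing R] {n : ℕ} {fs : Fin n → R} (h : WiebeLib.IsExact fs) :
    ∃ (m : ℕ) (b : Fin m → R), CAlgX.IsH1Regular b ∧ Ideal.span (Set.range b) = Ideal.span (Set.range fs) :=
  ⟨_, _, KRegLib.h1_of_koszul _ (KoszulFlatLib.isKoszulRegularSeq_of_isExact h), by
    rw [Set.range_list_get]
    congr 1
    ext y
    simp [List.mem_ofFn]⟩

theorem univ_rel_zero {A B B' C C' : Type u} [CommRing A] [CommRing B] [CommRing B'] [CommRing C] [CommRing C']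
    [Algebra A B] [Algebra A B'] [Algebra A C] [Algebra A C'] [Algebra B C] [IsScalarTower A B C]
    (πB : B' →ₐ[A] B) (hB : OmegaSh.IsUnivThickeningRing A B B' πB)
    (πC : C' →ₐ[A] C) (hC : OmegaSh.IsUnivThickeningRing A C C' πC)
    (σ : B' →ₐ[A] C') (hσ : ∀ b, πC (σ b) = algebraMap B C (πB b))
    {n : ℕ} (φ : MvPolynomial (Fin n) B →ₐ[B] C) (hφ : Function.Surjective φ)
    (hK : ∀ (𝔮 : Ideal C) [𝔮.IsPrime], KRegLib.KReg (RingHom.ker φ.toRingHom) (𝔮.comap φ.toRingHom))
    {S N : Type u} [CommRing S] (s : C →+* S) [AddCommGroup N] [Module S N] (β : B' → N)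
    (hadd : ∀ a b, πB a = 0 → πB b = 0 → β (a + b) = β a + β b)
    (hsmul : ∀ r a, πB a = 0 → β (r * a) = s (algebraMap B C (πB r)) • β a)
    {k : ℕ} (c : Fin k → C') (a : Fin k → B') (ha : ∀ l, πB (a l) = 0) (h : ∑ l, c l * σ (a l) = 0) :
    ∑ l, s (πC (c l)) • β (a l) = 0 := by
  classical
  let μ : MvPolynomial (Fin n) B' →+* MvPolynomial (Fin n) B := MvPolynomial.map πB.toRingHom
  have hμ : Function.Surjective μ := MvPolynomial.map_surjective _ hB.1
  let φ' : MvPolynomial (Fin n) B' →ₐ[A] C :=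
    ⟨φ.toRingHom.comp μ, fun r => by
      show φ (μ (MvPolynomial.C (algebraMap A B' r))) = _
      rw [show μ (MvPolynomial.C (algebraMap A B' r)) = MvPolynomial.C (algebraMap A B r) from
        (MvPolynomial.map_C _ _).trans (congrArg _ (πB.commutes r))]
      exact (φ.commutes _).trans (IsScalarTower.algebraMap_apply A B C r).symm⟩
  have hφ'C : ∀ b, φ' (MvPolynomial.C b) = algebraMap B C (πB b) := fun b => by
    show φ (μ (MvPolynomial.C b)) = _
    rw [show μ (MvPolynomial.C b) = MvPolynomial.C (πB b) from MvPolynomial.map_C _ _]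
    exact φ.commutes _
  have hφ' : Function.Surjective φ' := hφ.comp hμ
  let J : Ideal (MvPolynomial (Fin n) B') := RingHom.ker φ'.toRingHom
  let D := MvPolynomial (Fin n) B' ⧸ J ^ 2
  let I : Ideal D := J.map (Ideal.Quotient.mk (J ^ 2))
  have hI : I ^ 2 = ⊥ := by rw [← Ideal.map_pow, Ideal.map_quotient_self]
  let r : MvPolynomial (Fin n) B' →ₐ[A] D ⧸ I :=
    (Ideal.Quotient.mkₐ A I).comp (Ideal.Quotient.mkₐ A (J ^ 2))
  have hr : ∀ e ∈ J, r e = 0 := fun e he => Ideal.Quotient.eq_zero_iff_mem.2 (Ideal.mem_map_of_mem _ he)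
  let g : C →ₐ[A] D ⧸ I := (Ideal.Quotient.liftₐ J r hr).comp
    (Ideal.quotientKerAlgEquivOfSurjective hφ').symm.toAlgHom
  have hg : ∀ e, g (φ' e) = r e := by
    intro e
    show Ideal.Quotient.liftₐ J r hr ((Ideal.quotientKerAlgEquivOfSurjective hφ').symm (φ' e)) = r e
    rw [show (Ideal.quotientKerAlgEquivOfSurjective hφ').symm (φ' e) = Ideal.Quotient.mk J e from
      (AlgEquiv.symm_apply_eq _).2 rfl]
    rfl
  have hgmem : ∀ e e', r e = r e' → φ' e = φ' e' := fun e e' he => by
    have h0 : Ideal.Quotient.mk (J ^ 2) (e - e') ∈ I :=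
      Ideal.Quotient.eq_zero_iff_mem.1 ((map_sub r e e').trans (sub_eq_zero.2 he))
    rw [Ideal.mem_map_iff_of_surjective _ Ideal.Quotient.mk_surjective] at h0
    obtain ⟨y, hy, hye⟩ := h0
    have h1 : e - e' ∈ J := by
      have := Ideal.pow_le_self (n := 2) (by norm_num) (Ideal.Quotient.eq.1 hye)
      simpa using sub_mem hy this
    exact sub_eq_zero.1 ((map_sub φ' e e').symm.trans h1)
  obtain ⟨a', ha', -⟩ := hC.2.2 D I hI g
  have hcomp : a'.comp σ = (Ideal.Quotient.mkₐ A (J ^ 2)).comp (IsScalarTower.toAlgHom A B' _) := by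
    refine (hB.2.2 D I hI (g.comp (IsScalarTower.toAlgHom A B C))).unique ?_ ?_
    · refine AlgHom.ext fun b => ?_
      exact (congr($ha' (σ b))).trans (congrArg g (hσ b))
    · refine AlgHom.ext fun b => ?_
      exact ((hg (MvPolynomial.C b)).symm).trans (congrArg g (hφ'C b))
  choose p hp using fun l => Ideal.Quotient.mk_surjective (a' (c l))
  have hpc : ∀ l, φ' (p l) = πC (c l) := fun l => by
    obtain ⟨e, he⟩ := hφ' (πC (c l))
    rw [← he]
    refine hgmem _ _ ?_
    rw [← hg e, he]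
    exact (congrArg (Ideal.Quotient.mk I) (hp l)).trans congr($ha' (c l))
  let x : MvPolynomial (Fin n) B' := ∑ l, p l * MvPolynomial.C (a l)
  have hxJ : x ∈ J ^ 2 := by
    rw [← Ideal.Quotient.eq_zero_iff_mem, map_sum, ← map_zero a', ← h, map_sum]
    refine Finset.sum_congr rfl fun l _ => ?_
    rw [map_mul, map_mul, hp]
    exact congrArg (a' (c l) * ·) congr($hcomp (a l)).symm
  -- the coefficientwise map
  let Θ : MvPolynomial (Fin n) B' → N := fun q =>
    ∑ m ∈ q.support, s (φ (monomial m 1)) • β (q.coeff m)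
  have hβ0 : β 0 = 0 := by simpa using hadd 0 0 (map_zero _) (map_zero _)
  have hcoef : ∀ q, μ q = 0 → ∀ m, πB (q.coeff m) = 0 := fun q hq m => by
    have := congrArg (MvPolynomial.coeff m) hq
    rwa [MvPolynomial.coeff_map, MvPolynomial.coeff_zero] at this
  have hΘS : ∀ q (F : Finset (Fin n →₀ ℕ)), q.support ⊆ F →
      Θ q = ∑ m ∈ F, s (φ (monomial m 1)) • β (q.coeff m) := fun q F hF =>
    Finset.sum_subset hF fun m _ hm => by rw [MvPolynomial.notMem_support_iff.1 hm, hβ0, smul_zero]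
  have hΘadd : ∀ q q', μ q = 0 → μ q' = 0 → Θ (q + q') = Θ q + Θ q' := fun q q' hq hq' => by
    rw [hΘS (q + q') (q.support ∪ q'.support) MvPolynomial.support_add,
      hΘS q (q.support ∪ q'.support) Finset.subset_union_left,
      hΘS q' (q.support ∪ q'.support) Finset.subset_union_right, ← Finset.sum_add_distrib]
    exact Finset.sum_congr rfl fun m _ => by
      rw [MvPolynomial.coeff_add, hadd _ _ (hcoef q hq m) (hcoef q' hq' m), smul_add]
  have hΘsum : ∀ {ι : Type} (F : Finset ι) (f : ι → MvPolynomial (Fin n) B'), (∀ i, μ (f i) = 0) →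
      Θ (∑ i ∈ F, f i) = ∑ i ∈ F, Θ (f i) := by
    intro ι F f hf
    induction F using Finset.induction_on with
    | empty => simp [Θ]
    | insert i F hi ih => rw [Finset.sum_insert hi, Finset.sum_insert hi, hΘadd _ _ (hf i)
        (by rw [map_sum]; exact Finset.sum_eq_zero fun j _ => hf j), ih]
  have hΘC : ∀ q b, πB b = 0 → Θ (q * MvPolynomial.C b) = s (φ' q) • β b := by
    intro q b hb
    rw [hΘS (q * MvPolynomial.C b) q.support (fun m hm => by
      simp only [MvPolynomial.mem_support_iff, mul_comm q, MvPolynomial.coeff_C_mul] at hm ⊢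
      exact right_ne_zero_of_mul hm)]
    conv_rhs => rw [q.as_sum, map_sum, map_sum, Finset.sum_smul]
    refine Finset.sum_congr rfl fun m _ => ?_
    rw [mul_comm q, MvPolynomial.coeff_C_mul, mul_comm b, hsmul _ _ hb, smul_smul, ← map_mul, mul_comm (φ (monomial m 1))]
    congr 2
    rw [← mul_one (MvPolynomial.coeff m q), ← MvPolynomial.C_mul_monomial, mul_one, map_mul, hφ'C]
    congr 1
    show φ (monomial m 1) = φ (μ (monomial m 1))
    rw [MvPolynomial.map_monomial, map_one πB.toRingHom]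
  have hΘmul : ∀ q q', μ q' = 0 → Θ (q * q') = s (φ' q) • Θ q' := by
    intro q q' hq'
    have h0 : ∀ m, μ (monomial m 1 * MvPolynomial.C (q'.coeff m)) = 0 := fun m => by
      rw [map_mul, show μ (MvPolynomial.C (q'.coeff m)) = MvPolynomial.C (πB (q'.coeff m)) from MvPolynomial.map_C _ _,
        hcoef q' hq' m, map_zero, mul_zero]
    have hexp : q' = ∑ m ∈ q'.support, monomial m 1 * MvPolynomial.C (q'.coeff m) := by
      conv_lhs => rw [q'.as_sum]
      exact Finset.sum_congr rfl fun m _ => by rw [mul_comm, MvPolynomial.C_mul_monomial, mul_one]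
    generalize hF : q'.support = F at hexp
    generalize hco : (fun m => q'.coeff m) = co
    have hc' : ∀ m, q'.coeff m = co m := fun m => congr_fun hco m
    simp only [hc'] at h0 hexp
    have hb : ∀ m, πB (co m) = 0 := fun m => hc' m ▸ hcoef q' hq' m
    rw [hexp, Finset.mul_sum, hΘsum _ _ h0, hΘsum _ _ (fun m => by rw [map_mul, h0, mul_zero]), Finset.smul_sum]
    refine Finset.sum_congr rfl fun m _ => ?_
    rw [← mul_assoc, hΘC _ _ (hb m), hΘC _ _ (hb m), map_mul, map_mul, smul_smul]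
  have hx0 : μ x = 0 := by
    rw [map_sum]
    refine Finset.sum_eq_zero fun l _ => ?_
    rw [map_mul, show μ (MvPolynomial.C (a l)) = MvPolynomial.C (πB (a l)) from MvPolynomial.map_C _ _,
      ha, map_zero, mul_zero]
  have hΘx : Θ x = ∑ l, s (πC (c l)) • β (a l) := by
    rw [hΘsum _ _ (fun l => by rw [map_mul, show μ (MvPolynomial.C (a l)) = MvPolynomial.C (πB (a l)) from
      MvPolynomial.map_C _ _, ha, map_zero, mul_zero])]
    exact Finset.sum_congr rfl fun l _ => by rw [hΘC _ _ (ha l), hpc]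
  rw [← hΘx]
  let Ann : Ideal C := (Submodule.annihilator (Submodule.span S {Θ x})).comap s
  suffices hAnn : Ann = ⊤ by
    have h1 : s 1 ∈ Submodule.annihilator (Submodule.span S {Θ x}) := (show (1 : C) ∈ Ann from hAnn ▸ trivial)
    rw [Submodule.mem_annihilator_span_singleton, map_one, one_smul] at h1
    exact h1
  by_contra hne
  obtain ⟨𝔮, h𝔮, hle⟩ := Ann.exists_le_maximal hne
  obtain ⟨g0, hg0, hon⟩ := (hK 𝔮).exists_on
  obtain ⟨g', rfl⟩ := hμ g0
  let T' := Localization.Away g'
  let T := Localization.Away (μ g')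
  let π : T' →+* T := IsLocalization.map T μ (M := Submonoid.powers g') (T := Submonoid.powers (μ g'))
    (fun y ⟨l, hl⟩ => ⟨l, by rw [← hl]; exact (map_pow μ g' l).symm⟩)
  have hπ : ∀ y, π (algebraMap _ T' y) = algebraMap _ T (μ y) := fun y => IsLocalization.map_eq _ y
  have hπs : Function.Surjective π := fun y => by
    obtain ⟨e, ⟨_, l, rfl⟩, rfl⟩ := IsLocalization.exists_mk'_eq (Submonoid.powers (μ g')) y
    obtain ⟨e', rfl⟩ := hμ e
    refine ⟨IsLocalization.mk' T' e' (⟨g' ^ l, l, rfl⟩ : Submonoid.powers g'), ?_⟩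
    rw [IsLocalization.map_mk']
    congr 1
    exact Subtype.ext (map_pow μ g' l)
  haveI : Module.Flat (MvPolynomial (Fin n) B) T := IsLocalization.flat _ (Submonoid.powers (μ g'))
  obtain ⟨r0, fs, hfs, hfI⟩ := hon T (IsLocalization.Away.algebraMap_isUnit _)
  obtain ⟨r1, b, hb, hbfs⟩ := isH1Regular_of_isExact hfs
  have hK1 : J.map (algebraMap _ T') = (Ideal.span (Set.range b)).comap π := by
    rw [hbfs, ← hfI, comap_map_away μ g' T' T π hπ]
    rfl
  have hker : RingHom.ker π = (RingHom.ker μ).map (algebraMap _ T') := by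
    rw [RingHom.ker_eq_comap_bot, RingHom.ker_eq_comap_bot, ← comap_map_away μ g' T' T π hπ, Ideal.map_bot]
  have hmem := S8679.mem_mul_of_mem_sq π hπs b hb _ hK1 (a := algebraMap _ T' x)
    (by rw [RingHom.mem_ker, hπ, hx0, map_zero]) (by rw [← Ideal.map_pow]; exact Ideal.mem_map_of_mem _ hxJ)
  rw [hker, ← Ideal.map_mul, ← IsLocalization.mk'_one (M := Submonoid.powers g') T',
    IsLocalization.mk'_mem_map_algebraMap_iff (Submonoid.powers g')] at hmem
  obtain ⟨_, ⟨l, rfl⟩, hl⟩ := hmem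
  have hzero : Θ (g' ^ l * x) = 0 := by
    refine (Submodule.mul_induction_on (C := fun y => μ y = 0 ∧ Θ y = 0) hl (fun u hu v hv => ⟨?_, ?_⟩) ?_).2
    · rw [map_mul, RingHom.mem_ker.1 hv, mul_zero]
    · rw [hΘmul _ _ hv, show φ' u = 0 from hu, map_zero, zero_smul]
    · rintro u v ⟨hu, hu'⟩ ⟨hv, hv'⟩
      exact ⟨by rw [map_add, hu, hv, add_zero], by rw [hΘadd _ _ hu hv, hu', hv', add_zero]⟩
  rw [hΘmul _ _ hx0] at hzero
  have hmemAnn : φ' (g' ^ l) ∈ Ann := (Submodule.mem_annihilator_span_singleton _ _).2 hzero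
  have h2 : φ (μ g') ∈ 𝔮 := h𝔮.isPrime.mem_of_pow_mem l (by
    have := hle hmemAnn
    rwa [map_pow] at this)
  exact hg0 h2

end Groth.Agent.ConormalFrame
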